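import Cfsg.Agent.H27.E0.Frattini
import Cfsg.Agent.Cores.Constrained
import Cfsg.Agent.Cores.Fitting

/-!
# The constrained group of the small case

`L` is an odd group `Hb` extended by an involution `u`, with trivial `r'`-core.  A Sylow `r`-subgroup of
`C(x)` is `⟨a⟩ × ⟨x⟩` with `a` inverted by `u`, `n` acts on `⟨a⟩` by a power of square `≢ 1` and `x` generates
a Sylow `r`-subgroup of `C(u)` avoiding derived groups.  Then `x` is not in the derived group of `L`.
-/

set_option autoImplicit false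
set_option linter.unusedSectionVars false
set_option linter.style.haveILetI false

namespace Cfsg.Agent.H27.E0

open Subgroup

universe u

variable {L : Type u} [Group L] [Finite L]

/-- An element of odd order inverted by an element `u` of `C` is in the derived group of `C`. -/
theorem mem_commutator_of_inverted {C : Subgroup L} {a u : L} (ha : a ∈ C) (hu : u ∈ C)
    (ho : Odd (orderOf a)) (hua : u * a * u⁻¹ = a⁻¹) : a ∈ ⁅C, C⁆ := by
  obtain ⟨l, hl⟩ := ho
  have h2 : a ^ 2 ∈ ⁅C, C⁆ := by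
    have h := commutator_mem_commutator ha hu
    rw [commutatorElement_def] at h
    rwa [show a * u * a⁻¹ * u⁻¹ = a * (u * a * u⁻¹)⁻¹ by group, hua, inv_inv, ← pow_two] at h
  have h3 : a = (a ^ 2) ^ (l + 1) := by
    rw [← pow_mul, show 2 * (l + 1) = orderOf a + 1 by omega, pow_succ, pow_orderOf_eq_one, one_mul]
  rw [h3]
  exact pow_mem h2 _

theorem mem_zpowers_of_dvd {z a b : L} (ha : a ∈ zpowers z) (hb : b ∈ zpowers z)
    (h : orderOf a ∣ orderOf b) : a ∈ zpowers b := by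
  classical
  cases nonempty_fintype L
  have hle : (Finset.univ.filter fun t : zpowers z => t ^ orderOf b = 1).card ≤ orderOf b :=
    IsCyclic.card_pow_eq_one_le (orderOf_pos b)
  have hbz : zpowers b ≤ zpowers z := zpowers_le.2 hb
  have hsub : (Finset.univ.filter fun t : zpowers z => (t : L) ∈ zpowers b) ⊆
      Finset.univ.filter fun t : zpowers z => t ^ orderOf b = 1 := by
    intro t ht
    simp only [Finset.mem_filter, Finset.mem_univ, true_and] at ht ⊢
    obtain ⟨i, hi⟩ := mem_zpowers_iff.1 ht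
    refine Subtype.ext ?_
    rw [Subgroup.coe_pow, ← hi, ← zpow_natCast, ← zpow_mul, mul_comm, zpow_mul, zpow_natCast,
      pow_orderOf_eq_one, one_zpow]
    rfl
  have hcard : (Finset.univ.filter fun t : zpowers z => (t : L) ∈ zpowers b).card = orderOf b := by
    rw [← Fintype.card_subtype, ← Nat.card_eq_fintype_card, ← Nat.card_zpowers b]
    exact Nat.card_congr (subgroupOfEquivOfLe hbz).toEquiv
  have heq := Finset.eq_of_subset_of_card_le hsub (hle.trans hcard.symm.le)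
  have : (⟨a, ha⟩ : zpowers z) ∈ Finset.univ.filter fun t : zpowers z => (t : L) ∈ zpowers b := by
    rw [heq]
    simp only [Finset.mem_filter, Finset.mem_univ, true_and]
    refine Subtype.ext ?_
    rw [Subgroup.coe_pow]
    exact orderOf_dvd_iff_pow_eq_one.1 h
  exact (Finset.mem_filter.1 this).2

/-- Powers of a residue of multiplicative order prime to `r` modulo powers of `r`. -/
theorem pow_pow_modEq {r e m : ℕ} (h : e ^ m ≡ 1 [MOD r]) (N : ℕ) :
    (e ^ r ^ N) ^ m ≡ 1 [MOD r ^ (N + 1)] := by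
  have h1 : (r : ℤ) ∣ (1 : ℤ) - (e : ℤ) ^ m := by
    have := Nat.modEq_iff_dvd.1 h
    push_cast at this
    exact this
  have h2 := dvd_sub_pow_of_dvd_sub h1 N
  rw [one_pow] at h2
  rw [Nat.modEq_iff_dvd]
  push_cast
  rw [← pow_mul, mul_comm, pow_mul]
  exact h2

set_option maxHeartbeats 800000 in
theorem core_small {r : ℕ} [Fact r.Prime] (hr : r ≠ 2) (hcore : Cfsg.pPrimeCore r L = ⊥)
    {Hb : Subgroup L} [hHn : Hb.Normal] (hodd : Odd (Nat.card Hb)) {u : L} (hu : orderOf u = 2)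
    (hsup : Hb ⊔ zpowers u = ⊤) {x a n : L} (hxp : IsPGroup r (zpowers x)) (hx1 : x ≠ 1)
    (hxu : Commute x u) (haH : a ∈ Hb) (ha : a ^ r = 1) (ha1 : a ≠ 1)
    (hax : Commute a x) (hua : u * a * u⁻¹ = a⁻¹) (hnH : n ∈ Hb) (hnu : Commute n u)
    (hnx : Commute n x) (hnr : ¬ r ∣ orderOf n) {e : ℕ} (hna : n * a * n⁻¹ = a ^ e)
    (he : ¬ e * e ≡ 1 [MOD r])
    (hC : (Nat.card (centralizer ({x} : Set L))).factorization r ≤
      (Nat.card (zpowers x)).factorization r + 1)
    (hF : ∀ K : Subgroup L, IsPGroup r K → K ≤ centralizer ({u} : Set L) → x ∈ K → K ≤ zpowers x)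
    (hy : ∀ y ∈ zpowers x, y ≠ 1 →
      zpowers x ⊓ ⁅centralizer ({y} : Set L), centralizer ({y} : Set L)⁆ = ⊥)
    (hz : zpowers x ⊓ ⁅centralizer ({u} : Set L), centralizer ({u} : Set L)⁆ = ⊥)
    (hder : x ∈ commutator L) : False := by
  have hrp : r.Prime := Fact.out
  have hu2 : u * u = 1 := by
    have := pow_orderOf_eq_one u
    rwa [hu, pow_two] at this
  have huinv : u⁻¹ = u := inv_eq_of_mul_eq_one_right hu2
  have hoddel : ∀ g ∈ Hb, Odd (orderOf g) := fun g hg => hodd.of_dvd_nat (orderOf_dvd_natCard Hb hg)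
  have hsq : ∀ g : L, g * g ∈ Hb := by
    intro g
    obtain ⟨h, hh, w, hw, rfl⟩ := mem_sup_of_normal_left.1 (hsup ▸ mem_top g)
    obtain ⟨z, rfl⟩ := mem_zpowers_iff.1 hw
    have hzz : u ^ z * u ^ z = 1 := by
      rw [← zpow_add, ← two_mul, zpow_mul, zpow_two, hu2, one_zpow]
    have e : h * u ^ z * (h * u ^ z) = h * (u ^ z * h * (u ^ z)⁻¹) * (u ^ z * u ^ z) := by group
    rw [e, hzz, mul_one]
    exact mul_mem hh (hHn.conj_mem h hh _)
  have hodd_mem : ∀ g : L, Odd (orderOf g) → g ∈ Hb := fun g hg => by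
    obtain ⟨l, hl⟩ := hg
    have h3 : g = (g * g) ^ (l + 1) := by
      rw [← pow_two, ← pow_mul, show 2 * (l + 1) = orderOf g + 1 by omega, pow_succ, pow_orderOf_eq_one,
        one_mul]
    rw [h3]
    exact pow_mem (hsq g) _
  haveI hHsol : Group.IsSolvable Hb := S0205.result hodd
  haveI hLsol : Group.IsSolvable L := by
    refine (Group.isSolvable_iff_subgroup_quotient Hb).2 ⟨hHsol, ?_⟩
    refine Group.isSolvable_of_comm fun p q => ?_
    have hp2 : ∀ p : L ⧸ Hb, p * p = 1 := fun p => by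
      obtain ⟨g, rfl⟩ := QuotientGroup.mk'_surjective Hb p
      rw [← map_mul]
      exact (QuotientGroup.eq_one_iff _).2 (hsq g)
    calc p * q = p * q * ((q * p) * (q * p)) := by rw [hp2, mul_one]
      _ = p * (q * q) * p * (q * p) := by group
      _ = q * p := by rw [hp2, mul_one, hp2, one_mul]
  set Q := Cfsg.pCore r L with hQdef
  haveI hQn : Q.Normal := inferInstance
  have hQ : IsPGroup r Q := Cores.pCore_isPGroup
  have hcent : centralizer (Q : Set L) ≤ Q :=
    Cores.centralizer_pCore_le Cores.isPSolvable_of_isSolvable hcore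
  have hrodd : ∀ {K : Subgroup L}, IsPGroup r K → ∀ g ∈ K, Odd (orderOf g) := fun {K} hK g hg => by
    obtain ⟨k, hk⟩ := hK ⟨g, hg⟩
    refine Odd.of_dvd_nat ((hrp.odd_of_ne_two hr).pow (n := k)) (orderOf_dvd_of_pow_eq_one ?_)
    exact congrArg Subtype.val hk
  have hQH : Q ≤ Hb := fun g hg => hodd_mem g (hrodd hQ g hg)
  -- the fixed part of `Q`
  set C0 := Q ⊓ centralizer ({u} : Set L) with hC0def
  have hC0 : C0 ≤ zpowers x := by
    refine le_trans le_sup_left (hF (C0 ⊔ zpowers x) ((IsPGroup.to_sup_of_normal_left hQ hxp).to_le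
      (sup_le_sup_right inf_le_left _)) (sup_le inf_le_right (zpowers_le.2 ?_))
      (mem_sup_right (mem_zpowers x)))
    exact mem_centralizer_singleton_iff.2 hxu.eq
  obtain ⟨y, hyC⟩ : ∃ y, C0 = zpowers y := by
    haveI : IsCyclic C0 := isCyclic_of_injective (inclusion hC0) (inclusion_injective hC0)
    obtain ⟨⟨y, hy'⟩, hgen⟩ := IsCyclic.exists_generator (α := C0)
    refine ⟨y, le_antisymm (fun g hg => ?_) (zpowers_le.2 hy')⟩
    obtain ⟨k, hk⟩ := mem_zpowers_iff.1 (hgen ⟨g, hg⟩)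
    exact mem_zpowers_iff.2 ⟨k, congrArg Subtype.val hk⟩
  have hyC0 : y ∈ C0 := hyC ▸ mem_zpowers y
  have hcx : ∀ g ∈ zpowers x, Commute g n ∧ Commute g x ∧ Commute g u := by
    intro g hg
    obtain ⟨k, rfl⟩ := mem_zpowers_iff.1 hg
    exact ⟨hnx.symm.zpow_left k, Commute.zpow_self x k, hxu.zpow_left k⟩
  -- inverted elements of `Q` commuting with `x`
  set P0 := zpowers a ⊔ zpowers x with hP0
  have hap : IsPGroup r (zpowers a) :=
    IsPGroup.of_card (n := 1) (by rw [Nat.card_zpowers, orderOf_eq_prime ha ha1, pow_one])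
  have hanx : zpowers x ≤ normalizer (zpowers a : Set L) := by
    refine le_trans ?_ (centralizer_le_normalizer _)
    rw [zpowers_le]
    exact mem_centralizer_iff.2 fun g hg => by
      obtain ⟨k, rfl⟩ := mem_zpowers_iff.1 hg
      exact hax.zpow_left k
  have hdisj : zpowers a ⊓ zpowers x = ⊥ := by
    rw [eq_bot_iff]
    rintro g ⟨hga, hgx⟩
    obtain ⟨k, rfl⟩ := mem_zpowers_iff.1 hga
    have h1 : u * a ^ k * u⁻¹ = (a ^ k)⁻¹ := by rw [← conj_zpow, hua, inv_zpow]
    rw [← (hcx _ hgx).2.2.eq, mul_inv_cancel_right] at h1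
    obtain ⟨l, hl⟩ := hrodd hap _ hga
    have h2 : (a ^ k) ^ 2 = 1 := by rw [pow_two]; exact mul_eq_one_iff_eq_inv.2 h1
    rw [mem_bot]
    have h3 := pow_orderOf_eq_one (a ^ k)
    rw [hl, pow_succ, pow_mul, h2, one_pow, one_mul] at h3
    exact h3
  have hP0p : IsPGroup r P0 := hap.to_sup_of_normal_left' hxp hanx
  have hP0C : P0 ≤ centralizer ({x} : Set L) := sup_le
    (zpowers_le.2 (mem_centralizer_singleton_iff.2 hax.eq))
    (zpowers_le.2 (mem_centralizer_singleton_iff.2 rfl))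
  have hP0card : Nat.card P0 = r * Nat.card (zpowers x) := by
    rw [hP0, Coprime.card_sup hanx hdisj, Nat.card_zpowers a, orderOf_eq_prime ha ha1]
  have hQx : ∀ b ∈ Q, u * b * u⁻¹ = b⁻¹ → x * b * x⁻¹ = b → b ∈ zpowers a := by
    intro b hb hub hxb
    set K := (Q ⊓ centralizer ({x} : Set L)) ⊔ P0 with hK
    have hKp : IsPGroup r K := (IsPGroup.to_sup_of_normal_left hQ hP0p).to_le
      (sup_le_sup_right inf_le_left _)
    have hKC : K ≤ centralizer ({x} : Set L) := sup_le inf_le_right hP0C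
    have hKeq : P0 = K := by
      refine eq_of_le_of_card_ge le_sup_right ?_
      obtain ⟨k, hk⟩ := IsPGroup.iff_card.1 hKp
      obtain ⟨l, hl⟩ := IsPGroup.iff_card.1 hxp
      have h1 := (hrp.pow_dvd_iff_le_factorization Nat.card_pos.ne').1 (hk ▸ card_dvd_of_le hKC)
      rw [hl, hrp.factorization_pow, Finsupp.single_eq_same] at hC
      rw [hk, hP0card, hl, ← pow_succ']
      exact Nat.pow_le_pow_right hrp.pos (h1.trans hC)
    have hbK : b ∈ P0 := hKeq ▸ mem_sup_left
      ⟨hb, mem_centralizer_singleton_iff.2 (mul_inv_eq_iff_eq_mul.1 hxb).symm⟩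
    obtain ⟨w, hw, z, hz', rfl⟩ := (Coprime.mem_sup_iff hanx).1 hbK
    obtain ⟨k, rfl⟩ := mem_zpowers_iff.1 hw
    have h1 : u * a ^ k * u⁻¹ = (a ^ k)⁻¹ := by rw [← conj_zpow, hua, inv_zpow]
    have hcz := (hcx z hz')
    have hca : Commute (a ^ k) z := by
      obtain ⟨j, rfl⟩ := mem_zpowers_iff.1 hz'
      exact hax.zpow_zpow k j
    have h2 : u * (a ^ k * z) * u⁻¹ = (a ^ k)⁻¹ * z := by
      calc u * (a ^ k * z) * u⁻¹ = (u * a ^ k * u⁻¹) * (u * z * u⁻¹) := by group
        _ = _ := by rw [h1, ← hcz.2.2.eq, mul_inv_cancel_right]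
    rw [h2, mul_inv_rev, hca.inv_inv.eq.symm, mul_left_cancel_iff] at hub
    obtain ⟨l, hl⟩ := hrodd hxp _ hz'
    have h3 := pow_orderOf_eq_one z
    rw [hl, pow_succ, pow_mul, pow_two, mul_eq_one_iff_eq_inv.2 hub, one_pow, one_mul] at h3
    rw [h3, mul_one]
    exact zpow_mem (mem_zpowers a) k
  -- the exponent
  set m := orderOf n with hm
  set N := (Nat.card L).factorization r with hN
  set e' := e ^ r ^ N with he'
  have hee : (e' : ZMod r) = (e : ZMod r) := by rw [he', Nat.cast_pow, ZMod.pow_card_pow]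
  have heq : e' ≡ e [MOD r] := (ZMod.natCast_eq_natCast_iff _ _ _).1 hee
  have he1 : (e' : ZMod r) ≠ 1 := fun h => he <| by
    have h' : e ≡ 1 [MOD r] :=
      (ZMod.natCast_eq_natCast_iff _ _ _).1 (by rw [← hee, h, Nat.cast_one])
    exact (h'.mul h').trans (by rw [mul_one])
  have ham : e ^ m ≡ 1 [MOD r] := by
    have hk : ∀ k : ℕ, n ^ k * a * (n ^ k)⁻¹ = a ^ e ^ k := by
      intro k
      induction k with
      | zero => simp
      | succ k ih =>
        rw [pow_succ', show n * n ^ k * a * (n * n ^ k)⁻¹ = n * (n ^ k * a * (n ^ k)⁻¹) * n⁻¹ by group,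
          ih, ← conj_pow, hna, ← pow_mul, ← pow_succ']
    have h := hk m
    rw [pow_orderOf_eq_one, one_mul, inv_one, mul_one] at h
    have h' := (pow_eq_pow_iff_modEq).1 ((pow_one a).trans h)
    rw [orderOf_eq_prime ha ha1] at h'
    exact h'.symm
  have hQpow : ∀ q ∈ Q, q ^ e' ^ m = q := fun q hq => by
    obtain ⟨k, hk⟩ := IsPGroup.iff_card.1 hQ
    have h1 : orderOf q ∣ r ^ k := hk ▸ orderOf_dvd_natCard Q hq
    have hkN : k ≤ N := (hrp.pow_dvd_iff_le_factorization Nat.card_pos.ne').1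
      (hk ▸ card_subgroup_dvd_card Q)
    have h2 : e' ^ m ≡ 1 [MOD orderOf q] :=
      (pow_pow_modEq ham N).of_dvd (h1.trans (pow_dvd_pow r (by omega)))
    exact (pow_eq_pow_iff_modEq.2 h2).trans (pow_one q)
  -- the weight lemma on `Q`
  let υ : MulAut Q := MulAut.conjNormal u
  let ν : MulAut Q := MulAut.conjNormal n
  let ξ : MulAut Q := MulAut.conjNormal x
  have hfixQ : ∀ q : Q, υ q = q → (q : L) ∈ zpowers x := fun q hq => hC0 ⟨q.2,
    mem_centralizer_singleton_iff.2 (mul_inv_eq_iff_eq_mul.1 (congrArg Subtype.val hq :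
      u * (q : L) * u⁻¹ = q)).symm⟩
  have hW : WeightHyp r e' m υ ν ξ := by
    refine ⟨hrp, hr, hQ, fun q => ?_, fun q => ?_, fun q => ?_, fun q => ?_, ?_, fun z hz' => ?_,
      fun z hz' => ?_, ?_, ?_, hnr, fun q => Subtype.ext (by rw [Subgroup.coe_pow]; exact hQpow q q.2),
      ?_, fun b hb hxb => ?_, fun w hw hw1 hmem => ?_⟩
    · show MulAut.conjNormal u (MulAut.conjNormal u q) = q
      rw [← MulAut.mul_apply, ← map_mul, hu2, map_one]
      rfl
    · show MulAut.conjNormal n (MulAut.conjNormal u q) = MulAut.conjNormal u (MulAut.conjNormal n q)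
      rw [← MulAut.mul_apply, ← MulAut.mul_apply, ← map_mul, ← map_mul, hnu.eq]
    · show MulAut.conjNormal x (MulAut.conjNormal u q) = MulAut.conjNormal u (MulAut.conjNormal x q)
      rw [← MulAut.mul_apply, ← MulAut.mul_apply, ← map_mul, ← map_mul, hxu.eq]
    · show MulAut.conjNormal n (MulAut.conjNormal x q) = MulAut.conjNormal x (MulAut.conjNormal n q)
      rw [← MulAut.mul_apply, ← MulAut.mul_apply, ← map_mul, ← map_mul, hnx.eq]
    · intro p q hp hq hpr hq1
      have hdvd : orderOf (p : L) ∣ orderOf (q : L) := by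
        obtain ⟨k, hk⟩ := hQ q
        obtain ⟨l, -, hl⟩ := (Nat.dvd_prime_pow hrp).1 (orderOf_dvd_of_pow_eq_one hk)
        rw [Subgroup.orderOf_coe, hpr, Subgroup.orderOf_coe, hl]
        exact dvd_pow_self r fun e => hq1 (orderOf_eq_one_iff.1 (by rw [hl, e, pow_zero]))
      obtain ⟨k, hk⟩ := mem_zpowers_iff.1 (mem_zpowers_of_dvd (hfixQ p hp) (hfixQ q hq) hdvd)
      exact mem_zpowers_iff.2 ⟨k, Subtype.ext (by rw [Subgroup.coe_zpow]; exact hk)⟩
    · exact Subtype.ext (show n * (z : L) * n⁻¹ = z by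
        rw [← (hcx _ (hfixQ z hz')).1.eq, mul_inv_cancel_right])
    · exact Subtype.ext (show x * (z : L) * x⁻¹ = z by
        rw [← (hcx _ (hfixQ z hz')).2.1.eq, mul_inv_cancel_right])
    · obtain ⟨j, hj⟩ := hxp ⟨x, mem_zpowers x⟩
      refine ⟨j, ?_⟩
      show MulAut.conjNormal x ^ r ^ j = 1
      rw [← map_pow, show x ^ r ^ j = 1 from congrArg Subtype.val hj, map_one]
    · show MulAut.conjNormal n ^ m = 1
      rw [← map_pow, pow_orderOf_eq_one, map_one]
    · exact fun h => he ((heq.mul heq).symm.trans h)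
    · obtain ⟨k, hk⟩ := mem_zpowers_iff.1 (hQx b b.2 (congrArg Subtype.val hb) (congrArg Subtype.val hxb))
      refine Subtype.ext ?_
      rw [Subgroup.coe_pow]
      show n * (b : L) * n⁻¹ = _
      have hzn : ∀ (g : L) (i : ℤ) (j : ℕ), (g ^ j) ^ i = (g ^ i) ^ j := fun g i j => by
        rw [← zpow_natCast g j, ← zpow_natCast (g ^ i) j, ← zpow_mul, ← zpow_mul, mul_comm]
      rw [← hk, ← conj_zpow, hna, hzn]
      refine pow_eq_pow_iff_modEq.2 (Nat.ModEq.of_dvd ?_ heq.symm)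
      exact (orderOf_dvd_of_pow_eq_one (by rw [← hzn, ha, one_zpow]))
    · have hwx := hfixQ w hw
      have hw1' : (w : L) ≠ 1 := fun e => hw1 (Subtype.ext e)
      set C := centralizer ({(w : L)} : Set L) with hCdef
      have hle : closure {b : Q | υ b = b⁻¹ ∧ Commute b w} ≤ ⁅C, C⁆.comap Q.subtype := by
        rw [closure_le]
        rintro b ⟨hb, hbw⟩
        exact mem_commutator_of_inverted
          (mem_centralizer_singleton_iff.2 (congrArg Subtype.val hbw.eq))
          (mem_centralizer_singleton_iff.2 (hcx _ hwx).2.2.eq.symm) (hrodd hQ _ b.2)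
          (congrArg Subtype.val hb)
      exact hw1' (mem_bot.1 (hy _ hwx hw1' ▸ (⟨hwx, hle hmem⟩ :
        (w : L) ∈ zpowers x ⊓ ⁅C, C⁆)))
  have hweight : ∀ q ∈ Q, ∀ q' ∈ Q, u * q * u⁻¹ = q⁻¹ → u * q' * u⁻¹ = q'⁻¹ →
      q * q' = q' * q ∧ n * q * n⁻¹ = q ^ e' := fun q hq q' hq' h h' => by
    obtain ⟨h1, h2⟩ := weight_lemma hW (a := ⟨q, hq⟩) (b := ⟨q', hq'⟩) (Subtype.ext h) (Subtype.ext h')
    exact ⟨congrArg Subtype.val h1, by
      have := congrArg Subtype.val h2
      rwa [Subgroup.coe_pow] at this⟩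
  -- the Fitting subgroup of the odd part modulo `Q`
  set π := QuotientGroup.mk' Q with hπ
  set Hbar := Hb.map π with hHbar
  haveI : Hbar.Normal := hHn.map π (QuotientGroup.mk'_surjective Q)
  set F1 := fittingSubgroup (L ⧸ Q) ⊓ Hbar with hF1
  have hFr : ¬ r ∣ Nat.card F1 := by
    rw [hF1, ← Cores.map_fittingSubgroup_of_normal, Subgroup.card_map_of_injective Hbar.subtype_injective]
    have hbot : pCore r Hbar = ⊥ := by
      have h1 : (pCore r Hbar).map Hbar.subtype ≤ pCore r (L ⧸ Q) := Cores.map_pCore_le_of_normal Hbar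
      rw [Cores.pCore_quotient_pCore, le_bot_iff,
        Subgroup.map_eq_bot_iff_of_injective _ Hbar.subtype_injective] at h1
      exact h1
    have h2 := Cores.iSup_pCore_le_sup (G := Hbar) r
    rw [← Cores.iSup_pCore_eq_fittingSubgroup, hbot, sup_bot_eq] at h2
    exact fun h => Cores.not_dvd_card_pPrimeCore (h.trans (card_dvd_of_le h2))
  set K := F1.comap π with hK
  haveI hKn : K.Normal := inferInstance
  have hKH : K ≤ Hb := by
    refine (comap_mono inf_le_right).trans ?_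
    rw [hHbar, comap_map_eq, hπ, QuotientGroup.ker_mk', sup_eq_left.2 hQH]
  set D := K ⊔ zpowers n with hD
  have hDH : D ≤ Hb := sup_le hKH (zpowers_le.2 hnH)
  have hDr : ¬ r ∣ Q.relIndex D := by
    rw [← Cores.card_map_mk', hD, Subgroup.map_sup, hK,
      map_comap_eq_self_of_surjective (QuotientGroup.mk'_surjective Q), MonoidHom.map_zpowers, sup_comm]
    intro h
    rcases hrp.dvd_mul.1 (h.trans (Cores.card_sup_dvd _ _)) with h' | h'
    · rw [Nat.card_zpowers] at h'
      exact hnr (h'.trans (orderOf_map_dvd π n))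
    · exact hFr h'
  have hinQ : ∀ i ∈ K, u * i * u⁻¹ = i⁻¹ → i ∈ Q := fun i hi hui =>
    mem_of_inverted hr hQ hcent hu2 hyC0.1 (mem_centralizer_singleton_iff.1 hyC0.2)
      (fun q hq hqu => hyC ▸ ⟨hq, mem_centralizer_singleton_iff.2 hqu.eq⟩)
      ((hcx _ (hC0 hyC0)).1.symm) he1 (fun q hq hq' => (hweight q hq q hq hq' hq').2)
      (hodd.of_dvd_nat (card_dvd_of_le hDH)) (mem_sup_right (mem_zpowers n)) hDr (mem_sup_left hi) hui
  have hυK : ∀ q : K, MulAut.conjNormal u (MulAut.conjNormal u q) = q := fun q => by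
    rw [← MulAut.mul_apply, ← map_mul, hu2, map_one]
    rfl
  have hucent : ∀ f ∈ F1, π u * f * (π u)⁻¹ = f := by
    intro f hf
    obtain ⟨k, rfl⟩ := QuotientGroup.mk'_surjective Q f
    obtain ⟨p, i, hp, hi, hpi⟩ := exists_fixed_mul_inverted
      (hodd.of_dvd_nat (card_dvd_of_le hKH)) hυK (⟨k, hf⟩ : K)
    have hiQ : π (i : L) = 1 := (QuotientGroup.eq_one_iff _).2 (hinQ i i.2 (congrArg Subtype.val hi))
    have hk : k = (p : L) * i := congrArg Subtype.val hpi
    rw [← hπ, hk, map_mul, hiQ, mul_one, ← map_inv, ← map_mul, ← map_mul]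
    exact congrArg π (congrArg Subtype.val hp)
  haveI : Group.IsSolvable Hbar := Group.isSolvable_of_surjective (π.subgroupMap_surjective Hb)
  have hinv_sq : ∀ i ∈ Hb, u * i * u⁻¹ = i⁻¹ → i ∈ Q := by
    intro i hi hui
    set ub := π u with hub
    set h := π i with hh
    have hub2 : ub * ub = 1 := by rw [hub, ← map_mul, hu2, map_one]
    have huh : ub * h * ub⁻¹ = h⁻¹ := by rw [hub, hh, ← map_inv, ← map_mul, ← map_mul, hui, map_inv]
    have hhH : h ∈ Hbar := ⟨i, hi, rfl⟩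
    set c := h⁻¹ * h⁻¹ with hc
    have hcH : c ∈ Hbar := mul_mem (inv_mem hhH) (inv_mem hhH)
    have hcc : ∀ f ∈ F1, c * f = f * c := by
      intro f hf
      have h1 : h * f * h⁻¹ ∈ F1 := (inferInstance : F1.Normal).conj_mem f hf h
      have h2 := hucent _ h1
      have h3 := hucent _ hf
      have h3' : ub⁻¹ * f * ub = f := by
        calc ub⁻¹ * f * ub = ub⁻¹ * (ub * f * ub⁻¹) * ub := by rw [h3]
          _ = f := by group
      have h4 : (ub * h * ub⁻¹) * f * (ub * h * ub⁻¹)⁻¹ = h * f * h⁻¹ := by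
        calc _ = ub * (h * (ub⁻¹ * f * ub) * h⁻¹) * ub⁻¹ := by group
          _ = ub * (h * f * h⁻¹) * ub⁻¹ := by
            rw [h3']
          _ = _ := h2
      rw [huh, inv_inv] at h4
      calc c * f = h⁻¹ * (h⁻¹ * f * h) * h⁻¹ := by rw [hc]; group
        _ = h⁻¹ * (h * f * h⁻¹) * h⁻¹ := by rw [h4]
        _ = f * c := by rw [hc]; group
    have hcF : c ∈ F1 := by
      have hm : (⟨c, hcH⟩ : Hbar) ∈ centralizer (fittingSubgroup Hbar : Set Hbar) :=
        mem_centralizer_iff.2 fun g hg => Subtype.ext (hcc g ((Cores.map_fittingSubgroup_of_normal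
          Hbar).le ⟨g, hg, rfl⟩)).symm
      exact (Cores.map_fittingSubgroup_of_normal Hbar).le
        ⟨_, Cores.centralizer_fittingSubgroup_le hm, rfl⟩
    have h5 := hucent c hcF
    rw [hc, show ub * (h⁻¹ * h⁻¹) * ub⁻¹ = ((ub * h * ub⁻¹) * (ub * h * ub⁻¹))⁻¹ by group, huh,
      ← mul_inv_rev, inv_inv] at h5
    obtain ⟨l, hl⟩ : Odd (orderOf h) := (hoddel i hi).of_dvd_nat (orderOf_map_dvd π i)
    have h6 : h ^ 4 = 1 := by
      calc h ^ 4 = (h * h) * (h * h) := by rw [← pow_two h, ← pow_add]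
        _ = (h * h) * (h * h)⁻¹ := by rw [← h5]
        _ = 1 := mul_inv_cancel _
    have h7 : orderOf h ∣ 4 := orderOf_dvd_of_pow_eq_one h6
    have h8 : orderOf h = 1 := Nat.eq_one_of_dvd_coprimes
      ((Nat.coprime_two_left.2 ⟨l, hl⟩).pow_left 2) h7 dvd_rfl
    exact (QuotientGroup.eq_one_iff i).1 (orderOf_eq_one_iff.1 h8)
  -- the inverted elements form an abelian normal subgroup
  let M : Subgroup L :=
    { carrier := {g | g ∈ Q ∧ u * g * u⁻¹ = g⁻¹}
      one_mem' := ⟨one_mem Q, by group⟩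
      mul_mem' := fun {g h} hg hh => ⟨mul_mem hg.1 hh.1, by
        rw [show u * (g * h) * u⁻¹ = (u * g * u⁻¹) * (u * h * u⁻¹) by group, hg.2, hh.2, ← mul_inv_rev,
          (hweight g hg.1 h hh.1 hg.2 hh.2).1]⟩
      inv_mem' := fun {g} hg => ⟨inv_mem hg.1, by
        rw [show u * g⁻¹ * u⁻¹ = (u * g * u⁻¹)⁻¹ by group, hg.2]⟩ }
  have hfixN : ∀ f, u * f * u⁻¹ = f → ∀ g ∈ M, f * g * f⁻¹ ∈ M := fun f hf g hg =>
    ⟨hQn.conj_mem g hg.1 f, by
      calc u * (f * g * f⁻¹) * u⁻¹ = (u * f * u⁻¹) * (u * g * u⁻¹) * (u * f * u⁻¹)⁻¹ := by group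
        _ = f * g⁻¹ * f⁻¹ := by rw [hf, hg.2]
        _ = _ := by group⟩
  have hυH : ∀ q : Hb, MulAut.conjNormal u (MulAut.conjNormal u q) = q := fun q => by
    rw [← MulAut.mul_apply, ← map_mul, hu2, map_one]
    rfl
  have hdec : ∀ h ∈ Hb, h ∈ centralizer ({u} : Set L) ⊔ M := by
    intro h hh
    obtain ⟨p, i, hp, hi, hpi⟩ := exists_fixed_mul_inverted hodd hυH (⟨h, hh⟩ : Hb)
    rw [show h = (p : L) * i from congrArg Subtype.val hpi]
    exact mul_mem (mem_sup_left (mem_centralizer_singleton_iff.2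
      (mul_inv_eq_iff_eq_mul.1 (congrArg Subtype.val hp)).symm))
      (mem_sup_right ⟨hinv_sq i i.2 (congrArg Subtype.val hi), congrArg Subtype.val hi⟩)
  have htop : centralizer ({u} : Set L) ⊔ M = ⊤ := by
    rw [eq_top_iff, ← hsup]
    exact sup_le hdec (le_sup_of_le_left (zpowers_le.2 (mem_centralizer_singleton_iff.2 rfl)))
  haveI hMn : M.Normal := by
    rw [← normalizer_eq_top_iff, eq_top_iff, ← htop]
    refine sup_le ?_ le_normalizer
    rw [le_normalizer_iff]
    intro f hf g hg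
    refine hfixN f ?_ g hg
    rw [← mem_centralizer_singleton_iff.1 hf, mul_inv_cancel_right]
  set C := centralizer ({u} : Set L) with hCu
  have hxM : x ∈ M ⊔ ⁅C, C⁆ := by
    have h1 : (commutator L).map (QuotientGroup.mk' M) ≤ ⁅C, C⁆.map (QuotientGroup.mk' M) := by
      rw [_root_.commutator_def, map_commutator, map_commutator, ← htop, Subgroup.map_sup,
        (Subgroup.map_eq_bot_iff M).2 (QuotientGroup.ker_mk' M).ge, sup_bot_eq]
    have h2 := map_le_map_iff.1 h1
    rw [QuotientGroup.ker_mk', sup_comm] at h2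
    exact h2 hder
  obtain ⟨g, hg, c, hc, hgc⟩ := mem_sup_of_normal_left.1 hxM
  have hcC : c ∈ C := (commutator_le_self C) hc
  have hgfix : u * g * u⁻¹ = g := by
    rw [show g = x * c⁻¹ by rw [← hgc, mul_inv_cancel_right],
      show u * (x * c⁻¹) * u⁻¹ = (u * x * u⁻¹) * (u * c * u⁻¹)⁻¹ by group, ← hxu.eq,
      ← mem_centralizer_singleton_iff.1 hcC, mul_inv_cancel_right, mul_inv_cancel_right]
  have hg1 : g = 1 := by
    obtain ⟨l, hl⟩ := hrodd hQ g hg.1
    have h2 : g ^ 2 = 1 := by rw [pow_two, mul_eq_one_iff_eq_inv, ← hg.2, hgfix]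
    have h3 := pow_orderOf_eq_one g
    rwa [hl, pow_succ, pow_mul, h2, one_pow, one_mul] at h3
  rw [hg1, one_mul] at hgc
  exact hx1 (mem_bot.1 (hz ▸ (⟨mem_zpowers x, hgc ▸ hc⟩ : x ∈ zpowers x ⊓ ⁅C, C⁆)))

end Cfsg.Agent.H27.E0
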