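import Cfsg.Agent.Coprime.Generation

/-!
# Odd subgroups normalised by a four-group

If no non-trivial element of `P` with an involution of `V` in its centralizer is inverted by another
involution of `V`, then `V` centralizes `P`.
-/

set_option autoImplicit false
set_option linter.unusedSectionVars false

namespace Cfsg.Agent.H27.E0

open Subgroup

universe u

variable {G : Type u} [Group G] [Finite G]

/-- An involution inverting no non-trivial element of an odd group it normalises centralises it. -/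
theorem centralizes_of_no_inverted {P : Subgroup G} (hodd : Odd (Nat.card P)) {u : G}
    (hu : u * u = 1) (hn : u ∈ normalizer (P : Set G))
    (h : ∀ x ∈ P, u * x * u⁻¹ = x⁻¹ → x = 1) {x : G} (hx : x ∈ P) : u * x * u⁻¹ = x := by
  have _ := hodd
  have hxu : u * x * u⁻¹ ∈ P := (mem_normalizer_iff.1 hn x).1 hx
  have hinv : u⁻¹ = u := inv_eq_of_mul_eq_one_right hu
  refine (inv_mul_eq_one.1 (h _ (mul_mem (inv_mem hx) hxu) ?_)).symm
  rw [hinv]
  calc u * (x⁻¹ * (u * x * u)) * u = u * x⁻¹ * u * x * (u * u) := by group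
    _ = u * x⁻¹ * u * x := by rw [hu, mul_one]
    _ = (x⁻¹ * (u * x * u))⁻¹ := by rw [mul_inv_rev, mul_inv_rev, mul_inv_rev, hinv, inv_inv]; group

/-- A four-group normalising an odd subgroup `P` centralizes it when no non-trivial element of `P`
centralized by one of its involutions is inverted by another one. -/
theorem le_centralizer_of_four {P V : Subgroup G} [IsMulCommutative V] (hV : Nat.card V = 4)
    (hsq : ∀ v ∈ V, v * v = 1) (hn : V ≤ normalizer (P : Set G)) (hodd : Odd (Nat.card P))
    (hreal : ∀ x ∈ P, ∀ v ∈ V, v ≠ 1 → Commute v x → ∀ w ∈ V, w * x * w⁻¹ = x⁻¹ → x = 1) :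
    P ≤ centralizer (V : Set G) := by
  have hnc : ¬ IsCyclic V := fun hc => by
    have h2 : Monoid.exponent V ∣ 2 := Monoid.exponent_dvd_of_forall_pow_eq_one fun v =>
      Subtype.ext (by rw [Subgroup.coe_pow, pow_two, hsq v v.2]; rfl)
    rw [hc.exponent_eq_card, hV] at h2
    exact absurd (Nat.le_of_dvd (by norm_num) h2) (by norm_num)
  have hcop : (Nat.card V).Coprime (Nat.card P) := by
    rw [hV]
    exact (Nat.coprime_two_left.2 hodd).pow_left 2
  refine Agent.Coprime.le_of_centralizer_noncyclic_le hnc hn hcop fun v hv hv1 => ?_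
  rintro x ⟨hxP, hxv⟩
  refine mem_centralizer_iff.2 fun w hw => mul_inv_eq_iff_eq_mul.1 ?_
  have hcv : ∀ {y : G}, y ∈ P ⊓ centralizer ({v} : Set G) →
      w * y * w⁻¹ ∈ P ⊓ centralizer ({v} : Set G) := fun {y} hy => by
    refine ⟨(mem_normalizer_iff.1 (hn hw) y).1 hy.1, ?_⟩
    have hwv : w * v = v * w := congrArg Subtype.val
      (IsMulCommutative.is_comm.comm (⟨w, hw⟩ : V) ⟨v, hv⟩)
    have hyv := mem_centralizer_singleton_iff.1 hy.2
    refine mem_centralizer_singleton_iff.2 ?_
    calc w * y * w⁻¹ * v = w * y * w⁻¹ * (v * w) * w⁻¹ := by group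
      _ = w * y * w⁻¹ * (w * v) * w⁻¹ := by rw [hwv]
      _ = w * (y * v) * w⁻¹ := by group
      _ = w * (v * y) * w⁻¹ := by rw [hyv]
      _ = w * v * (y * w⁻¹) := by group
      _ = v * w * (y * w⁻¹) := by rw [hwv]
      _ = v * (w * y * w⁻¹) := by group
  refine centralizes_of_no_inverted (P := P ⊓ centralizer ({v} : Set G))
    (hodd.of_dvd_nat (card_dvd_of_le inf_le_left)) (hsq w hw) ?_ (fun y hy he => ?_) ⟨hxP, hxv⟩
  · refine mem_normalizer_iff.2 fun y => ⟨fun hy => hcv hy, fun hy => ?_⟩
    have hinv : w⁻¹ = w := inv_eq_of_mul_eq_one_right (hsq w hw)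
    have := hcv hy
    rwa [hinv, show w * (w * y * w) * w = (w * w) * y * (w * w) by group, hsq w hw, one_mul,
      mul_one] at this
  · exact hreal y hy.1 v hv hv1 (mem_centralizer_singleton_iff.1 hy.2).symm w hw he

end Cfsg.Agent.H27.E0
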