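import Mathlib

/-!
# `r`-groups with an involutory automorphism, a cyclic fixed subgroup and one weight

`υ` is the involution, `ξ` an element of `r`-power order and `ν` an element of order prime to `r` which acts
on the inverted fixed points of `ξ` by the power `e`, `e ^ 2 ≢ 1`.  If no fixed element of `υ` is a product
of inverted elements commuting with it, then the inverted elements commute and all have weight `e`.
-/

set_option autoImplicit false
set_option linter.unusedSectionVars false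
set_option linter.style.haveILetI false

namespace Cfsg.Agent.H27.E0

open Subgroup
open scoped commutatorElement

universe u

/-- If `φ a = a ^ e * d`, `φ d = d ^ e` and `φ ^ m = 1`, then `d = 1`. -/
theorem eq_one_of_unipotent {A : Type*} [CommGroup A] (φ : A →* A) {m e : ℕ}
    (hφ : ∀ a, φ^[m] a = a) {a d : A} (ha : φ a = a ^ e * d) (hd : φ d = d ^ e)
    (he : a ^ e ^ m = a) (hcop : (m * e ^ (m - 1)).Coprime (orderOf d)) : d = 1 := by
  have key : ∀ k : ℕ, φ^[k] a = a ^ e ^ k * d ^ (k * e ^ (k - 1)) := by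
    intro k
    induction k with
    | zero => simp
    | succ k ih =>
      rw [Function.iterate_succ_apply', ih, map_mul, map_pow, map_pow, ha, hd, mul_pow, ← pow_mul,
        ← pow_mul, mul_assoc, ← pow_add, ← pow_succ']
      congr 2
      rcases k with _ | k
      · simp
      · simp only [Nat.add_sub_cancel]
        rw [pow_succ]
        ring
  have h := key m
  rw [hφ, he, eq_comm, mul_eq_left] at h
  have h1 : orderOf d ∣ m * e ^ (m - 1) := orderOf_dvd_of_pow_eq_one h
  exact orderOf_eq_one_iff.1 (Nat.dvd_one.1 (hcop ▸ Nat.dvd_gcd h1 dvd_rfl))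

variable {P : Type u} [Group P]

/-- The restriction of an automorphism to an invariant finite subgroup. -/
noncomputable def resAut [Finite P] (φ : MulAut P) (S : Subgroup P) (h : ∀ s ∈ S, φ s ∈ S) :
    MulAut ↥S :=
  MulEquiv.ofBijective ((φ.toMonoidHom.comp S.subtype).codRestrict S fun s => h s s.2)
    (Finite.injective_iff_bijective.1 fun _ _ e =>
      Subtype.ext (φ.injective (congrArg Subtype.val e)))

@[simp] theorem coe_resAut [Finite P] (φ : MulAut P) (S : Subgroup P) (h : ∀ s ∈ S, φ s ∈ S)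
    (s : ↥S) : (resAut φ S h s : P) = φ s := rfl

theorem coe_resAut_pow [Finite P] (φ : MulAut P) (S : Subgroup P) (h : ∀ s ∈ S, φ s ∈ S)
    (k : ℕ) (s : ↥S) : (((resAut φ S h) ^ k) s : P) = (φ ^ k) s := by
  induction k generalizing s with
  | zero => simp
  | succ k ih => rw [pow_succ, pow_succ, MulAut.mul_apply, MulAut.mul_apply, ih, coe_resAut]

/-- An automorphism of order two without fixed points of a finite group inverts every element. -/
theorem inverted_of_fixfree [Finite P] {υ : MulAut P} (hυ : ∀ a, υ (υ a) = a)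
    (h : ∀ a, υ a = a → a = 1) (a : P) : υ a = a⁻¹ := by
  have hinj : Function.Injective fun q : P => q⁻¹ * υ q := by
    intro p q hpq
    have h1 : υ (q * p⁻¹) = q * p⁻¹ := by
      rw [map_mul, map_inv, eq_comm, ← mul_inv_eq_one]
      have hpq' : p⁻¹ * υ p = q⁻¹ * υ q := hpq
      have e : υ p = p * (q⁻¹ * υ q) := by rw [← hpq', mul_inv_cancel_left]
      rw [e]; group
    exact (mul_inv_eq_one.1 (h _ h1)).symm
  obtain ⟨q, rfl⟩ := (Finite.injective_iff_surjective.1 hinj) a
  show υ (q⁻¹ * υ q) = (q⁻¹ * υ q)⁻¹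
  rw [map_mul, map_inv, hυ, mul_inv_rev, inv_inv]

/-- In a finite group of odd order every element is a fixed element times an inverted one. -/
theorem exists_fixed_mul_inverted [Finite P] (hodd : Odd (Nat.card P)) {υ : MulAut P}
    (hυ : ∀ a, υ (υ a) = a) (d : P) : ∃ f i : P, υ f = f ∧ υ i = i⁻¹ ∧ d = f * i := by
  set z := (υ d)⁻¹ * d with hz
  have hzi : υ z = z⁻¹ := by rw [hz, map_mul, map_inv, hυ, mul_inv_rev, inv_inv]
  obtain ⟨k, hk⟩ := hodd.of_dvd_nat (orderOf_dvd_natCard z)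
  have hii : z ^ (k + 1) * z ^ (k + 1) = z := by
    rw [← pow_add, show k + 1 + (k + 1) = orderOf z + 1 by omega, pow_succ, pow_orderOf_eq_one,
      one_mul]
  refine ⟨d * (z ^ (k + 1))⁻¹, z ^ (k + 1), ?_, by rw [map_pow, hzi, inv_pow], by group⟩
  rw [map_mul, map_inv, map_pow, hzi, inv_pow, inv_inv, eq_mul_inv_iff_mul_eq, mul_assoc, hii, hz,
    mul_inv_cancel_left]

/-- The hypotheses of the weight lemma. -/
structure WeightHyp [Finite P] (r e m : ℕ) (υ ν ξ : MulAut P) : Prop where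
  prime : r.Prime
  odd : r ≠ 2
  pgroup : IsPGroup r P
  invol : ∀ a, υ (υ a) = a
  comm_νυ : ∀ a, ν (υ a) = υ (ν a)
  comm_ξυ : ∀ a, ξ (υ a) = υ (ξ a)
  comm_νξ : ∀ a, ν (ξ a) = ξ (ν a)
  cyclic : ∀ y z : P, υ y = y → υ z = z → orderOf y = r → z ≠ 1 → y ∈ zpowers z
  ν_fix : ∀ z : P, υ z = z → ν z = z
  ξ_fix : ∀ z : P, υ z = z → ξ z = z
  ξ_pow : ∃ j, ξ ^ r ^ j = 1
  ν_pow : ν ^ m = 1
  not_dvd : ¬ r ∣ m
  e_pow : ∀ a : P, a ^ e ^ m = a
  e_sq : ¬ e * e ≡ 1 [MOD r]
  weight : ∀ a : P, υ a = a⁻¹ → ξ a = a → ν a = a ^ e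
  ker : ∀ y : P, υ y = y → y ≠ 1 → y ∉ closure {a : P | υ a = a⁻¹ ∧ Commute a y}

namespace WeightHyp

variable [Finite P] {r e m : ℕ} {υ ν ξ : MulAut P}

theorem odd_card (h : WeightHyp r e m υ ν ξ) : Odd (Nat.card P) := by
  haveI : Fact r.Prime := ⟨h.prime⟩
  obtain ⟨k, hk⟩ := IsPGroup.iff_card.1 h.pgroup
  rw [hk]
  exact (h.prime.odd_of_ne_two h.odd).pow

theorem not_dvd_e (h : WeightHyp r e m υ ν ξ) (a : P) (ha : a ≠ 1) : ¬ r ∣ e := by
  haveI : Fact r.Prime := ⟨h.prime⟩
  intro hd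
  obtain ⟨k, hk⟩ := h.pgroup a
  obtain ⟨l, -, hl⟩ := (Nat.dvd_prime_pow h.prime).1 (orderOf_dvd_of_pow_eq_one hk)
  have hm : m ≠ 0 := fun e => h.not_dvd (e ▸ dvd_zero r)
  have h1 : orderOf a ∣ e ^ m - 1 ∨ e ^ m = 0 := by
    rcases Nat.eq_zero_or_pos (e ^ m) with h0 | h0
    · exact Or.inr h0
    · refine Or.inl (orderOf_dvd_of_pow_eq_one (mul_right_cancel (b := a) ?_))
      rw [← pow_succ, Nat.sub_add_cancel h0, h.e_pow, one_mul]
  rcases h1 with h1 | h1
  · have hl0 : l ≠ 0 := fun e => ha (orderOf_eq_one_iff.1 (by rw [hl, e, pow_zero]))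
    have h2 : r ∣ e ^ m - 1 := ((dvd_pow_self r hl0).trans hl.symm.dvd).trans h1
    rcases Nat.eq_zero_or_pos (e ^ m) with h0 | h0
    · have := h.e_pow a; rw [h0, pow_zero] at this; exact ha this.symm
    · have h3 := Nat.dvd_sub (hd.trans (dvd_pow_self e hm)) h2
      rw [Nat.sub_sub_self h0] at h3
      exact h.prime.ne_one (Nat.dvd_one.1 h3)
  · have := h.e_pow a; rw [h1, pow_zero] at this; exact ha this.symm

theorem res (h : WeightHyp r e m υ ν ξ) (S : Subgroup P) (hu : ∀ s ∈ S, υ s ∈ S)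
    (hn : ∀ s ∈ S, ν s ∈ S) (hx : ∀ s ∈ S, ξ s ∈ S) :
    WeightHyp r e m (resAut υ S hu) (resAut ν S hn) (resAut ξ S hx) where
  prime := h.prime
  odd := h.odd
  pgroup := h.pgroup.to_subgroup S
  invol a := Subtype.ext (by simpa using h.invol a)
  comm_νυ a := Subtype.ext (by simpa using h.comm_νυ a)
  comm_ξυ a := Subtype.ext (by simpa using h.comm_ξυ a)
  comm_νξ a := Subtype.ext (by simpa using h.comm_νξ a)
  cyclic y z hy hz hy' hz' := by
    obtain ⟨k, hk⟩ := mem_zpowers_iff.1 (h.cyclic y z (congrArg Subtype.val hy)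
      (congrArg Subtype.val hz) (by rw [Subgroup.orderOf_coe, hy']) fun e => hz' (Subtype.ext e))
    exact mem_zpowers_iff.2 ⟨k, Subtype.ext (by rw [Subgroup.coe_zpow]; exact hk)⟩
  ν_fix z hz := Subtype.ext (h.ν_fix z (congrArg Subtype.val hz))
  ξ_fix z hz := Subtype.ext (h.ξ_fix z (congrArg Subtype.val hz))
  ξ_pow := by
    obtain ⟨j, hj⟩ := h.ξ_pow
    exact ⟨j, MulEquiv.ext fun s => Subtype.ext (by rw [coe_resAut_pow, hj]; rfl)⟩
  ν_pow := MulEquiv.ext fun s => Subtype.ext (by rw [coe_resAut_pow, h.ν_pow]; rfl)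
  not_dvd := h.not_dvd
  e_pow a := Subtype.ext (by rw [Subgroup.coe_pow]; exact h.e_pow a)
  e_sq := h.e_sq
  weight a ha hxa := Subtype.ext (by
    rw [coe_resAut, Subgroup.coe_pow]
    exact h.weight a (congrArg Subtype.val ha) (congrArg Subtype.val hxa))
  ker y hy hy1 hmem := by
    refine h.ker y (congrArg Subtype.val hy) (fun e => hy1 (Subtype.ext e)) ?_
    have h1 := mem_map_of_mem S.subtype hmem
    rw [MonoidHom.map_closure] at h1
    refine closure_mono ?_ h1
    rintro _ ⟨a, ⟨ha, hc⟩, rfl⟩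
    exact ⟨congrArg Subtype.val ha, congrArg Subtype.val hc⟩

end WeightHyp

theorem iterate_eq_pow (ν : MulAut P) (k : ℕ) (a : P) : (fun b => ν b)^[k] a = (ν ^ k) a := by
  induction k with
  | zero => rfl
  | succ k ih => rw [Function.iterate_succ_apply', ih, pow_succ', MulAut.mul_apply]

theorem mem_center_of_inverted_gen {υ : MulAut P}
    (hgen : closure {a : P | υ a = a⁻¹} = ⊤) {c : P}
    (h : ∀ a : P, υ a = a⁻¹ → a * c = c * a) : c ∈ center P := by
  have : closure {a : P | υ a = a⁻¹} ≤ centralizer ({c} : Set P) := by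
    rw [closure_le]
    intro a ha
    exact mem_centralizer_singleton_iff.2 (h a ha)
  exact mem_center_iff.2 fun g =>
    mem_centralizer_singleton_iff.1 (this (hgen ▸ mem_top g))

theorem weight_lemma_aux (r e m : ℕ) : ∀ (k : ℕ) (P : Type u) [Group P] [Finite P]
    (υ ν ξ : MulAut P), Nat.card P = k → WeightHyp r e m υ ν ξ →
    ∀ a b : P, υ a = a⁻¹ → υ b = b⁻¹ → a * b = b * a ∧ ν a = a ^ e := by
  intro k
  induction k using Nat.strong_induction_on with
  | _ k IH =>
  intro P _ _ υ ν ξ hk h a₀ b₀ ha₀ hb₀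
  haveI : Fact r.Prime := ⟨h.prime⟩
  -- induction step for proper invariant subgroups
  have hstep : ∀ S : Subgroup P, S ≠ ⊤ → (∀ s ∈ S, υ s ∈ S) → (∀ s ∈ S, ν s ∈ S) →
      (∀ s ∈ S, ξ s ∈ S) → ∀ a ∈ S, ∀ b ∈ S, υ a = a⁻¹ → υ b = b⁻¹ →
      a * b = b * a ∧ ν a = a ^ e := by
    intro S hS hu hn hx a ha b hb hai hbi
    have hlt : Nat.card S < k := by
      rw [← hk]
      refine lt_of_le_of_ne (Subgroup.card_le_card_group S) fun e => hS ?_
      exact Subgroup.eq_top_of_card_eq S e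
    obtain ⟨h1, h2⟩ := IH _ hlt ↥S _ _ _ rfl (h.res S hu hn hx) ⟨a, ha⟩ ⟨b, hb⟩
      (Subtype.ext (by simpa using hai)) (Subtype.ext (by simpa using hbi))
    exact ⟨congrArg Subtype.val h1, by simpa using congrArg Subtype.val h2⟩
  by_cases hgen : closure {a : P | υ a = a⁻¹} = ⊤
  swap
  · have hinv : ∀ φ : MulAut P, (∀ a, φ (υ a) = υ (φ a)) →
        ∀ s ∈ closure {a : P | υ a = a⁻¹}, φ s ∈ closure {a : P | υ a = a⁻¹} := by
      intro φ hφ s hs
      induction hs using closure_induction with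
      | mem z hz =>
        refine subset_closure ?_
        show υ (φ z) = (φ z)⁻¹
        rw [← hφ, hz, map_inv]
      | one => rw [map_one]; exact one_mem _
      | mul _ _ _ _ h1 h2 => rw [map_mul]; exact mul_mem h1 h2
      | inv _ _ h1 => rw [map_inv]; exact inv_mem h1
    exact hstep _ hgen (hinv υ fun _ => rfl) (hinv ν h.comm_νυ) (hinv ξ h.comm_ξυ) a₀
      (subset_closure ha₀) b₀ (subset_closure hb₀) ha₀ hb₀
  by_cases hfree : ∀ z : P, υ z = z → z = 1
  · -- `P` is abelian and inverted; compute the weight through the fixed points of `ξ`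
    have hinv := inverted_of_fixfree h.invol hfree
    have hcomm : ∀ a b : P, a * b = b * a := by
      intro a b
      have h1 := hinv (a * b)
      rw [map_mul, hinv, hinv, mul_inv_rev] at h1
      have h2 := congrArg (·⁻¹) h1
      simp only [mul_inv_rev, inv_inv] at h2
      exact h2.symm
    refine ⟨hcomm _ _, ?_⟩
    letI : CommGroup P := { (inferInstance : Group P) with mul_comm := hcomm }
    by_contra hne
    let δ : P →* P := (ν.toMonoidHom) * (powMonoidHom e)⁻¹
    have hδ : ∀ a, δ a = ν a * (a ^ e)⁻¹ := fun a => rfl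
    have hδξ : ∀ a, δ (ξ a) = ξ (δ a) := fun a => by
      rw [hδ, hδ, h.comm_νξ, map_mul, map_inv, map_pow]
    set D := δ.range
    have hD : D ≠ ⊥ := fun e' => hne (by
      have : δ a₀ ∈ D := ⟨a₀, rfl⟩
      rw [e', mem_bot, hδ, mul_inv_eq_one] at this
      exact this)
    have hDξ : ∀ s ∈ D, ξ s ∈ D := by
      rintro _ ⟨a, rfl⟩
      exact ⟨ξ a, hδξ a⟩
    obtain ⟨j, hj⟩ := h.ξ_pow
    haveI := fun (H : Subgroup (MulAut P)) => (inferInstance : MulAction ↥H P)
    let Ξ : Subgroup (MulAut ↥D) := zpowers (resAut ξ D hDξ)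
    have hΞ : IsPGroup r Ξ := by
      rintro ⟨g, hg⟩
      obtain ⟨i, rfl⟩ := mem_zpowers_iff.1 hg
      refine ⟨j, Subtype.ext ?_⟩
      show (resAut ξ D hDξ ^ i) ^ r ^ j = 1
      rw [← zpow_natCast, ← zpow_mul, mul_comm, zpow_mul, zpow_natCast,
        show resAut ξ D hDξ ^ r ^ j = 1 from
          MulEquiv.ext fun s => Subtype.ext (by rw [coe_resAut_pow, hj]; rfl), one_zpow]
    have hdvd : r ∣ Nat.card ↥D := by
      obtain ⟨l, hl⟩ := IsPGroup.iff_card.1 (h.pgroup.to_subgroup D)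
      rw [hl]
      refine dvd_pow_self r fun e0 => hD (Subgroup.card_eq_one.1 ?_)
      rw [hl, e0, pow_zero]
    obtain ⟨d, hd, hd1⟩ := hΞ.exists_fixed_point_of_prime_dvd_card_of_fixed_point (α := ↥D) hdvd
      (a := 1) fun g => map_one (g : MulAut ↥D)
    have hξd : ξ (d : P) = d :=
      congrArg Subtype.val (hd ⟨resAut ξ D hDξ, mem_zpowers _⟩)
    obtain ⟨a, ha⟩ := d.2
    have hd' : ν (d : P) = (d : P) ^ e := h.weight _ (hinv _) hξd
    refine hd1 (Subtype.ext (eq_one_of_unipotent ν.toMonoidHom (m := m) (a := a) (e := e) ?_ ?_ hd'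
      (h.e_pow a) ?_).symm)
    · intro b
      have := iterate_eq_pow ν m b
      rw [h.ν_pow] at this
      exact this
    · show ν a = a ^ e * d
      rw [← ha, hδ, mul_comm, inv_mul_cancel_right]
    · obtain ⟨l, hl⟩ := h.pgroup (d : P)
      obtain ⟨l', -, hl'⟩ := (Nat.dvd_prime_pow h.prime).1 (orderOf_dvd_of_pow_eq_one hl)
      rw [hl']
      refine (Nat.Coprime.pow_right _ (Nat.Coprime.symm (h.prime.coprime_iff_not_dvd.2 ?_)))
      intro hr
      rcases h.prime.dvd_mul.1 hr with h1 | h1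
      · exact h.not_dvd h1
      · exact h.not_dvd_e _ (fun e => hd1 (Subtype.ext e.symm)) (h.prime.dvd_of_dvd_pow h1)
  -- a fixed element `y` of order `r`
  exfalso
  push Not at hfree
  obtain ⟨z₀, hz₀, hz₀1⟩ := hfree
  obtain ⟨y, hy, hyo⟩ : ∃ y, υ y = y ∧ orderOf y = r := by
    obtain ⟨l, hl⟩ := h.pgroup z₀
    obtain ⟨l', -, hl'⟩ := (Nat.dvd_prime_pow h.prime).1 (orderOf_dvd_of_pow_eq_one hl)
    obtain ⟨t, rfl⟩ : ∃ t, l' = t + 1 := ⟨l' - 1, by
      have : l' ≠ 0 := fun e => hz₀1 (orderOf_eq_one_iff.1 (by rw [hl', e, pow_zero]))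
      omega⟩
    refine ⟨z₀ ^ r ^ t, by rw [map_pow, hz₀], ?_⟩
    rw [orderOf_pow_of_dvd (pow_ne_zero _ h.prime.ne_zero) (hl' ▸ ⟨r, pow_succ r t⟩), hl',
      pow_succ, Nat.mul_div_cancel_left _ (pow_pos h.prime.pos _)]
  have hy1 : y ≠ 1 := fun e => by
    rw [e, orderOf_one] at hyo; exact h.prime.ne_one hyo.symm
  have hfix_nc : ∀ z : P, υ z = z → z ≠ 1 → z ∉ center P := by
    intro z hz hz1 hc
    refine h.ker z hz hz1 ?_
    have : {a : P | υ a = a⁻¹ ∧ Commute a z} = {a : P | υ a = a⁻¹} :=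
      Set.ext fun a => ⟨fun h => h.1, fun h => ⟨h, mem_center_iff.1 hc a⟩⟩
    rw [this, hgen]
    exact mem_top z
  -- inside `Y = C(y)`
  set Y := centralizer ({y} : Set P) with hY
  have hmemY : ∀ {s : P}, s ∈ Y ↔ s * y = y * s := mem_centralizer_singleton_iff
  have hYtop : Y ≠ ⊤ := fun e => hfix_nc y hy hy1 (mem_center_iff.2 fun g =>
    hmemY.1 (e ▸ mem_top g))
  have hYinv : ∀ φ : MulAut P, φ y = y → ∀ s ∈ Y, φ s ∈ Y := fun φ hφ s hs => by
    rw [hmemY]
    calc φ s * y = φ (s * y) := by rw [map_mul, hφ]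
      _ = φ (y * s) := by rw [hmemY.1 hs]
      _ = y * φ s := by rw [map_mul, hφ]
  have hYgood : ∀ a ∈ Y, υ a = a⁻¹ → ν a = a ^ e := fun a ha hai =>
    (hstep Y hYtop (hYinv υ hy) (hYinv ν (h.ν_fix y hy)) (hYinv ξ (h.ξ_fix y hy))
      a ha a ha hai hai).2
  -- the centre is inverted
  have hZinv : ∀ z ∈ center P, υ z = z⁻¹ := by
    intro z hz
    have hzυ : υ z ∈ center P := mem_center_iff.2 fun g => by
      have := congrArg υ (mem_center_iff.1 hz (υ g))
      rwa [map_mul, map_mul, h.invol] at this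
    by_contra hne
    refine hfix_nc (z * υ z) ?_ (fun e => hne (eq_inv_of_mul_eq_one_right e)) (mul_mem hz hzυ)
    rw [map_mul, h.invol]
    exact (mem_center_iff.1 hz _)
  have hZweight : ∀ z ∈ center P, ν z = z ^ e := fun z hz =>
    hYgood z (hmemY.2 (mem_center_iff.1 hz y).symm) (hZinv z hz)
  have hodd := h.odd_card
  -- `y` is a commutator
  set P' := commutator P with hP'
  have hall : ∀ g : P, υ g * g ∈ P' := by
    intro g
    have : g ∈ closure {a : P | υ a = a⁻¹} := hgen ▸ mem_top g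
    induction this using closure_induction with
    | mem z hz => rw [show υ z = z⁻¹ from hz, inv_mul_cancel]; exact one_mem _
    | one => rw [map_one, one_mul]; exact one_mem _
    | mul s t _ _ hs ht =>
      rw [map_mul, show υ s * υ t * (s * t) = υ s * s * (s⁻¹ * (υ t * (s * t * s⁻¹ * t⁻¹)) * (υ t)⁻¹ * s) * (s⁻¹ * (υ t * t) * s) by group]
      refine mul_mem (mul_mem hs ?_) ?_
      · rw [mul_assoc _ (υ t)⁻¹ s]
        have hc : s * t * s⁻¹ * t⁻¹ ∈ P' := commutator_mem_commutator (mem_top s) (mem_top t)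
        have := (inferInstance : P'.Normal).conj_mem _ ((inferInstance : P'.Normal).conj_mem _ hc (υ t)) s⁻¹
        simpa [mul_assoc] using this
      · have := (inferInstance : P'.Normal).conj_mem _ ht s⁻¹
        simpa [mul_assoc] using this
    | inv s _ hs =>
      rw [map_inv, show (υ s)⁻¹ * s⁻¹ = (υ s)⁻¹ * ((υ s * s)⁻¹) * υ s by group]
      have := (inferInstance : P'.Normal).conj_mem _ (inv_mem hs) (υ s)⁻¹
      simpa [mul_assoc] using this
  have hfixP' : ∀ f : P, υ f = f → f ∈ P' := by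
    intro f hf
    have h1 := hall f
    rw [hf] at h1
    obtain ⟨k, hk⟩ := hodd.of_dvd_nat (orderOf_dvd_natCard f)
    have := pow_mem h1 (k + 1)
    rwa [← pow_two, ← pow_mul, show 2 * (k + 1) = orderOf f + 1 by omega, pow_succ,
      pow_orderOf_eq_one, one_mul] at this
  -- `y` is in the second centre
  set Z2 := (center (P ⧸ center P)).comap (QuotientGroup.mk' (center P)) with hZ2
  have hZ2c : ∀ c ∈ Z2, ∀ g : P, g * c * g⁻¹ * c⁻¹ ∈ center P := by
    intro c hc g
    rw [← QuotientGroup.eq_one_iff]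
    have h1 := mem_center_iff.1 (mem_comap.1 hc) (QuotientGroup.mk' (center P) g)
    rw [QuotientGroup.mk'_apply, QuotientGroup.mk'_apply] at h1
    rw [QuotientGroup.mk_mul, QuotientGroup.mk_mul, QuotientGroup.mk_mul, QuotientGroup.mk_inv,
      QuotientGroup.mk_inv, h1, mul_inv_cancel_right, mul_inv_cancel]
  have hZ2P' : ∀ c ∈ Z2, ∀ w ∈ P', c * w = w * c := by
    intro c hc w hw
    suffices P' ≤ centralizer ({c} : Set P) from (mem_centralizer_singleton_iff.1 (this hw)).symm
    rw [hP', _root_.commutator_def, commutator_le]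
    intro s _ t _
    refine mem_centralizer_singleton_iff.2 ?_
    have hs := hZ2c c hc s
    have ht := hZ2c c hc t
    have e1 : s * c * s⁻¹ = (s * c * s⁻¹ * c⁻¹) * c := by group
    have e2 : t * c * t⁻¹ = (t * c * t⁻¹ * c⁻¹) * c := by group
    set p := s * c * s⁻¹ * c⁻¹
    set q := t * c * t⁻¹ * c⁻¹
    have e1' : s⁻¹ * c * s = p⁻¹ * c := by
      calc s⁻¹ * c * s = p⁻¹ * (p * (s⁻¹ * c * s)) := by group
        _ = p⁻¹ * (s⁻¹ * (p * c) * s) := by
            rw [show p * (s⁻¹ * c * s) = p * s⁻¹ * (c * s) by group, ← mem_center_iff.1 hs s⁻¹]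
            group
        _ = p⁻¹ * c := by rw [← e1]; group
    have e2' : t⁻¹ * c * t = q⁻¹ * c := by
      calc t⁻¹ * c * t = q⁻¹ * (q * (t⁻¹ * c * t)) := by group
        _ = q⁻¹ * (t⁻¹ * (q * c) * t) := by
            rw [show q * (t⁻¹ * c * t) = q * t⁻¹ * (c * t) by group, ← mem_center_iff.1 ht t⁻¹]
            group
        _ = q⁻¹ * c := by rw [← e2]; group
    have move : ∀ (g z : P), z ∈ center P → g * z = z * g := fun g z hz => mem_center_iff.1 hz g
    have h3 : ⁅s, t⁆ * c * ⁅s, t⁆⁻¹ = c := by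
      rw [commutatorElement_def,
        show s * t * s⁻¹ * t⁻¹ * c * (s * t * s⁻¹ * t⁻¹)⁻¹ =
          s * (t * (s⁻¹ * (t⁻¹ * c * t) * s) * t⁻¹) * s⁻¹ by group, e2',
        show s⁻¹ * (q⁻¹ * c) * s = s⁻¹ * q⁻¹ * s * (s⁻¹ * c * s) by group, e1',
        move s⁻¹ q⁻¹ (inv_mem ht), inv_mul_cancel_right,
        show t * (q⁻¹ * (p⁻¹ * c)) * t⁻¹ = t * (q⁻¹ * p⁻¹) * t⁻¹ * (t * c * t⁻¹) by group, e2,
        move t _ (mul_mem (inv_mem ht) (inv_mem hs)), mul_inv_cancel_right,
        show s * (q⁻¹ * p⁻¹ * (q * c)) * s⁻¹ = s * (q⁻¹ * p⁻¹ * q) * s⁻¹ * (s * c * s⁻¹) by group,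
        e1, move q⁻¹ p⁻¹ (inv_mem hs), inv_mul_cancel_right, move s _ (inv_mem hs),
        mul_inv_cancel_right, inv_mul_cancel_left]
    exact mul_inv_eq_iff_eq_mul.1 h3
  have hyZ2 : y ∈ Z2 := by
    by_contra hy2
    have hall2 : ∀ c ∈ Z2, υ c = c → c = 1 := by
      intro c hc hcf
      by_contra hc1
      exact hy2 (zpowers_le.2 hc (h.cyclic y c hy hcf hyo hc1))
    have hZ2υ : ∀ c ∈ Z2, υ c ∈ Z2 := fun c hc => mem_comap.2 (mem_center_iff.2 fun w => by
      obtain ⟨g, rfl⟩ := QuotientGroup.mk'_surjective (center P) w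
      rw [QuotientGroup.mk'_apply, QuotientGroup.mk'_apply, ← QuotientGroup.mk_mul,
        ← QuotientGroup.mk_mul, QuotientGroup.eq]
      have hz := hZ2c c hc (υ g)
      have e : (g * υ c)⁻¹ * (υ c * g) = (υ (υ g * c * (υ g)⁻¹ * c⁻¹))⁻¹ ∨ True := Or.inr trivial
      clear e
      have h1 : υ (υ g * c * (υ g)⁻¹ * c⁻¹) ∈ center P := by
        rw [hZinv _ hz]; exact inv_mem hz
      rw [map_mul, map_mul, map_mul, map_inv, map_inv, h.invol] at h1
      have h2 := (inferInstance : (center P).Normal).conj_mem _ (inv_mem h1) (g * υ c)⁻¹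
      simpa [mul_assoc] using h2)
    have hZ2i : ∀ c ∈ Z2, υ c = c⁻¹ := by
      intro c hc
      have := inverted_of_fixfree (υ := resAut υ Z2 hZ2υ)
        (fun a => Subtype.ext (by simpa using h.invol a))
        (fun a ha => Subtype.ext (hall2 _ a.2 (congrArg Subtype.val ha))) ⟨c, hc⟩
      simpa using congrArg Subtype.val this
    have hle : Z2 ≤ center P := fun c hc => mem_center_of_inverted_gen hgen fun a ha => by
      have hz := hZ2c c hc a
      set w := a * c * a⁻¹ * c⁻¹ with hw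
      have h1 : υ w = w⁻¹ := hZinv w hz
      have h2 : υ w = a⁻¹ * c⁻¹ * a * c := by
        rw [hw]
        simp only [map_mul, map_inv, ha, hZ2i c hc, inv_inv]
      have h3 : w * (a * c) = (a * c) * w := (mem_center_iff.1 hz (a * c)).symm
      have h4 : a⁻¹ * c⁻¹ * a * c = w := by
        calc a⁻¹ * c⁻¹ * a * c = (c * a)⁻¹ * (a * c) := by group
          _ = (c * a)⁻¹ * (w * (c * a)) := by rw [hw]; group
          _ = w := by rw [← mem_center_iff.1 hz (c * a), inv_mul_cancel_left]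
      rw [← h2, h1] at h4
      have hww : w * w = 1 := inv_eq_iff_mul_eq_one.1 h4
      obtain ⟨k, hk⟩ := hodd.of_dvd_nat (orderOf_dvd_natCard w)
      have hw1 : w = 1 := by
        have h5 := pow_orderOf_eq_one w
        rwa [hk, pow_succ, pow_mul, pow_two, hww, one_pow, one_mul] at h5
      rw [hw, mul_inv_eq_one, mul_inv_eq_iff_eq_mul] at hw1
      exact hw1
    haveI : Nontrivial P := ⟨⟨y, 1, hy1⟩⟩
    by_cases htop : center P = ⊤
    · exact hfix_nc y hy hy1 (htop ▸ mem_top y)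
    haveI : Nontrivial (P ⧸ center P) := QuotientGroup.nontrivial_iff.2 htop
    haveI := (h.pgroup.to_quotient (center P)).center_nontrivial
    obtain ⟨⟨w, hwc⟩, hw1⟩ := exists_ne (1 : ↥(center (P ⧸ center P)))
    obtain ⟨g, rfl⟩ := QuotientGroup.mk'_surjective (center P) w
    exact hw1 (Subtype.ext ((QuotientGroup.eq_one_iff g).2 (hle hwc)))
  -- weights modulo the commutator subgroup
  have hd : ∀ a : P, ν a * (a ^ e)⁻¹ ∈ Y := by
    let φ : P →* P :=
      { toFun := fun g => g * y * g⁻¹ * y⁻¹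
        map_one' := by group
        map_mul' := fun s t => by
          have ht := hZ2c y hyZ2 t
          calc s * t * y * (s * t)⁻¹ * y⁻¹
              = s * (t * y * t⁻¹ * y⁻¹) * (y * s⁻¹ * y⁻¹) := by group
            _ = (t * y * t⁻¹ * y⁻¹) * (s * (y * s⁻¹ * y⁻¹)) := by
                rw [mem_center_iff.1 ht s]; group
            _ = (s * (y * s⁻¹ * y⁻¹)) * (t * y * t⁻¹ * y⁻¹) :=
                (mem_center_iff.1 ht _).symm
            _ = s * y * s⁻¹ * y⁻¹ * (t * y * t⁻¹ * y⁻¹) := by group }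
    intro a
    have h1 : φ (ν a) = φ a ^ e := by
      show ν a * y * (ν a)⁻¹ * y⁻¹ = (a * y * a⁻¹ * y⁻¹) ^ e
      rw [← hZweight _ (hZ2c y hyZ2 a)]
      simp only [map_mul, map_inv, h.ν_fix y hy]
    have h2 : φ (ν a * (a ^ e)⁻¹) = 1 := by
      rw [map_mul, map_inv, map_pow, h1, mul_inv_cancel]
    change (ν a * (a ^ e)⁻¹) * y * (ν a * (a ^ e)⁻¹)⁻¹ * y⁻¹ = 1 at h2
    rw [mul_inv_eq_one, mul_inv_eq_iff_eq_mul] at h2
    exact hmemY.2 h2
  -- the weight modulo `P'`
  have hνP' : ∀ g ∈ P', ν g ∈ P' := fun g hg => by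
    have h1 := mem_map_of_mem ν.toMonoidHom hg
    rwa [hP', map_commutator_eq, MonoidHom.range_eq_top.2 ν.surjective, ← _root_.commutator_def] at h1
  have hmod : ∀ a : P, ν a * (a ^ e)⁻¹ ∈ P' := by
    intro a
    obtain ⟨f, i, hf, hi, hfi⟩ : ∃ f i : P, υ f = f ∧ υ i = i⁻¹ ∧
        ν a * (a ^ e)⁻¹ = f * i ∧ True := by
      obtain ⟨f, i, hf, hi, he⟩ := exists_fixed_mul_inverted hodd h.invol (ν a * (a ^ e)⁻¹)
      exact ⟨f, i, hf, hi, he, trivial⟩
    obtain ⟨hfi, -⟩ := hfi
    have hfY : f ∈ Y := hmemY.2 (by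
      by_cases hf1 : f = 1
      · rw [hf1, one_mul, mul_one]
      · obtain ⟨k, rfl⟩ := mem_zpowers_iff.1 (h.cyclic y f hy hf hyo hf1)
        exact ((Commute.refl f).zpow_right k).eq)
    have hiY : i ∈ Y := by
      have := mul_mem (inv_mem hfY) (hfi ▸ hd a)
      rwa [inv_mul_cancel_left] at this
    let ν' : Abelianization P →* Abelianization P := Abelianization.map ν.toMonoidHom
    have hf' : Abelianization.of f = 1 := by
      rw [← MonoidHom.mem_ker, Abelianization.ker_of]; exact hfixP' f hf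
    have key := eq_one_of_unipotent ν' (m := m) (e := e) (a := Abelianization.of a)
      (d := Abelianization.of i) ?_ ?_ ?_ (by rw [← map_pow, h.e_pow]) ?_
    · show ν a * (a ^ e)⁻¹ ∈ _root_.commutator P
      rw [← Abelianization.ker_of, MonoidHom.mem_ker, hfi, map_mul, hf', key, one_mul]
    · intro b
      obtain ⟨b, rfl⟩ : ∃ x, Abelianization.of x = b :=
        QuotientGroup.mk'_surjective (_root_.commutator P) b
      have : ∀ k : ℕ, ν'^[k] (Abelianization.of b) = Abelianization.of ((ν ^ k) b) := by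
        intro k
        induction k with
        | zero => rfl
        | succ k ih =>
          rw [Function.iterate_succ_apply', ih, Abelianization.map_of, pow_succ']; rfl
      rw [this, h.ν_pow]; rfl
    · rw [Abelianization.map_of, ← map_pow]
      show Abelianization.of (ν a) = _
      rw [show ν a = f * i * a ^ e by rw [← hfi, inv_mul_cancel_right], map_mul, map_mul, hf',
        one_mul, mul_comm]
    · rw [Abelianization.map_of, ← map_pow]
      exact congrArg _ (hYgood i hiY hi)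
    · obtain ⟨l, hl⟩ := h.pgroup i
      have hl2 : orderOf (Abelianization.of i) ∣ r ^ l :=
        (orderOf_map_dvd _ i).trans (orderOf_dvd_of_pow_eq_one hl)
      refine Nat.Coprime.coprime_dvd_right hl2 (Nat.Coprime.pow_right _
        (Nat.Coprime.symm (h.prime.coprime_iff_not_dvd.2 ?_)))
      intro hr
      rcases h.prime.dvd_mul.1 hr with h1 | h1
      · exact h.not_dvd h1
      · exact h.not_dvd_e y hy1 (h.prime.dvd_of_dvd_pow h1)
  -- modulo `[P', P]` everything commutes
  set P3 := ⁅P', (⊤ : Subgroup P)⁆ with hP3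
  haveI : P3.Normal := inferInstance
  have hP3' : P3 = P' → False := by
    intro e
    have hn := h.pgroup.isNilpotent
    obtain ⟨c, hc⟩ := Subgroup.nilpotent_iff_lowerCentralSeries.1 hn
    have : ∀ k, P' ≤ (⊤ : Subgroup P).lowerCentralSeries k := by
      intro k
      induction k with
      | zero => rw [Subgroup.lowerCentralSeries_zero]; exact le_top
      | succ k ih =>
        rw [← e, hP3, Subgroup.lowerCentralSeries_succ]
        exact commutator_mono ih le_rfl
    have h1 := this c (hfixP' y hy)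
    rw [hc, mem_bot] at h1
    exact hy1 h1
  refine hP3' (le_antisymm (commutator_le_left _ _) ?_)
  set π := QuotientGroup.mk' P3
  have hcen : ∀ w ∈ P', ∀ g : P, π g * π w = π w * π g := by
    intro w hw g
    rw [← map_mul, ← map_mul, QuotientGroup.mk'_apply, QuotientGroup.mk'_apply, QuotientGroup.eq]
    have hc : ⁅w⁻¹, g⁻¹⁆ ∈ P3 := commutator_mem_commutator (inv_mem hw) (mem_top _)
    rw [commutatorElement_def] at hc
    simpa [mul_assoc] using hc
  have hυP' : ∀ g ∈ P', υ g ∈ P' := fun g hg => by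
    have h1 := mem_map_of_mem υ.toMonoidHom hg
    rwa [hP', map_commutator_eq, MonoidHom.range_eq_top.2 υ.surjective, ← _root_.commutator_def] at h1
  have hυP3 : ∀ φ : MulAut P, (∀ g ∈ P', φ g ∈ P') → ∀ g ∈ P3, φ g ∈ P3 := by
    intro φ hφ g hg
    have h1 := mem_map_of_mem φ.toMonoidHom hg
    rw [hP3, map_commutator] at h1
    refine commutator_mono ?_ le_top h1
    rintro _ ⟨w, hw, rfl⟩
    exact hφ w hw
  have hgens : ∀ a b : P, υ a = a⁻¹ → υ b = b⁻¹ → π a * π b = π b * π a := by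
    intro a b ha hb
    set c := a * b * a⁻¹ * b⁻¹ with hc
    have hcP : c ∈ P' := commutator_mem_commutator (mem_top a) (mem_top b)
    -- bilinearity with central values
    have hbil : ∀ s t : P, ∀ i j : ℕ,
        π (s ^ i * t ^ j * (s ^ i)⁻¹ * (t ^ j)⁻¹) = π (s * t * s⁻¹ * t⁻¹) ^ (i * j) := by
      intro s t
      have hr : ∀ (p q : P) (i : ℕ),
          π (p ^ i * q * (p ^ i)⁻¹ * q⁻¹) = π (p * q * p⁻¹ * q⁻¹) ^ i := by
        intro p q i
        have hpq : p * q * p⁻¹ * q⁻¹ ∈ P' := commutator_mem_commutator (mem_top p) (mem_top q)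
        induction i with
        | zero => simp
        | succ i ih =>
          rw [show p ^ (i + 1) * q * (p ^ (i + 1))⁻¹ * q⁻¹ =
            p * (p ^ i * q * (p ^ i)⁻¹ * q⁻¹) * p⁻¹ * (p * q * p⁻¹ * q⁻¹) by
            rw [pow_succ']; group, map_mul, map_mul, map_mul, map_inv,
            hcen (p ^ i * q * (p ^ i)⁻¹ * q⁻¹)
              (commutator_mem_commutator (mem_top (p ^ i)) (mem_top q)) p, mul_inv_cancel_right,
            ih, ← pow_succ]
      intro i j
      rw [hr s (t ^ j) i]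
      have h1 : π (s * t ^ j * s⁻¹ * (t ^ j)⁻¹) = π (s * t * s⁻¹ * t⁻¹) ^ j := by
        have h2 := hr t s j
        rw [← inv_inj, ← inv_pow (π (t * s * t⁻¹ * s⁻¹)), ← map_inv, ← map_inv] at h2
        rw [show (t ^ j * s * (t ^ j)⁻¹ * s⁻¹)⁻¹ = s * t ^ j * s⁻¹ * (t ^ j)⁻¹ by group,
          show (t * s * t⁻¹ * s⁻¹)⁻¹ = s * t * s⁻¹ * t⁻¹ by group] at h2
        exact h2
      rw [h1, ← pow_mul, mul_comm]
    have hcn : π (ν c) = π c ^ (e * e) := by
      rw [← hbil a b e e]
      have hmove : ∀ s t : P, ∀ w ∈ P', ∀ v ∈ P',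
          π ((w * s) * (v * t) * (w * s)⁻¹ * (v * t)⁻¹) = π (s * t * s⁻¹ * t⁻¹) := by
        intro s t w hw v hv
        simp only [map_mul, map_inv, mul_inv_rev]
        have cw : ∀ g, π g * π w = π w * π g := hcen w hw
        have cv : ∀ g, π g * π v = π v * π g := hcen v hv
        calc π w * π s * (π v * π t) * ((π s)⁻¹ * (π w)⁻¹) * ((π t)⁻¹ * (π v)⁻¹)
            = π w * (π s * π v) * π t * (π s)⁻¹ * (π w)⁻¹ * (π t)⁻¹ * (π v)⁻¹ := by group
          _ = π w * π v * (π (s * t * s⁻¹) * (π w)⁻¹) * (π t)⁻¹ * (π v)⁻¹ := by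
              rw [cv s]; simp only [map_mul, map_inv]; group
          _ = π w * π v * ((π w)⁻¹ * π (s * t * s⁻¹)) * (π t)⁻¹ * (π v)⁻¹ := by
              rw [← map_inv, hcen _ (inv_mem hw), map_inv]
          _ = π v * (π (s * t * s⁻¹ * t⁻¹) * (π v)⁻¹) := by
              rw [show π w * π v = π v * π w from (cw v).symm]
              simp only [map_mul, map_inv]; group
          _ = π (s * t * s⁻¹ * t⁻¹) := by
              rw [← map_inv, hcen _ (inv_mem hv), map_inv, mul_inv_cancel_left]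
      have h1 := hmove (a ^ e) (b ^ e) _ (hmod a) _ (hmod b)
      rw [inv_mul_cancel_right, inv_mul_cancel_right] at h1
      rw [← h1, hc]
      simp only [map_mul, map_inv]
    obtain ⟨f, i, hf, hi, hfi⟩ := exists_fixed_mul_inverted hodd h.invol c
    have hυc : π (υ c) = π c := by
      rw [hc]
      simp only [map_mul υ, map_inv υ, ha, hb, inv_inv]
      rw [show a⁻¹ * b⁻¹ * a * b = (b * a)⁻¹ * c * (b * a) by rw [hc]; group, map_mul, map_mul,
        map_inv, mul_assoc, ← hcen c hcP, inv_mul_cancel_left]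
    have hi1 : π i = 1 := by
      rw [hfi, map_mul υ, hf, hi] at hυc
      simp only [map_mul, map_inv, mul_right_inj] at hυc
      have h2 : π i * π i = 1 := inv_eq_iff_mul_eq_one.1 hυc
      obtain ⟨k, hk⟩ := hodd.of_dvd_nat (orderOf_dvd_natCard i)
      have h5 : π i ^ (2 * k + 1) = 1 := by
        rw [← map_pow, ← hk, pow_orderOf_eq_one, map_one]
      rwa [pow_succ, pow_mul, pow_two, h2, one_pow, one_mul] at h5
    have hcc : π c ^ (e * e) = π c := by
      rw [← hcn, hfi, map_mul ν, map_mul, map_mul, h.ν_fix f hf, hi1, mul_one]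
      have hiP3 : i ∈ P3 := (QuotientGroup.eq_one_iff i).1 hi1
      rw [show π (ν i) = 1 from (QuotientGroup.eq_one_iff _).2 (hυP3 ν hνP' i hiP3), mul_one]
    have hc1 : π c = 1 := by
      obtain ⟨l, hl⟩ := h.pgroup c
      have hl' : π c ^ r ^ l = 1 := by rw [← map_pow, hl, map_one]
      by_contra hne
      obtain ⟨l', -, hl2⟩ := (Nat.dvd_prime_pow h.prime).1 (orderOf_dvd_of_pow_eq_one hl')
      have h7 : e * e ≡ 1 [MOD orderOf (π c)] := pow_eq_pow_iff_modEq.1 (by rw [hcc, pow_one])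
      refine h.e_sq (h7.of_dvd (hl2 ▸ dvd_pow_self r fun e0 => hne ?_))
      rw [← orderOf_eq_one_iff, hl2, e0, pow_zero]
    rw [hc] at hc1
    simp only [map_mul, map_inv] at hc1
    rwa [mul_inv_eq_one, mul_inv_eq_iff_eq_mul] at hc1
  rw [hP', _root_.commutator_def, commutator_le]
  have hab : ∀ s t : P, π s * π t = π t * π s := by
    have h1 : ∀ a : P, υ a = a⁻¹ → ∀ t : P, π a * π t = π t * π a := by
      intro a ha t
      have : closure {b : P | υ b = b⁻¹} ≤ (centralizer ({π a} : Set (P ⧸ P3))).comap π := by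
        rw [closure_le]
        intro b hb
        exact mem_centralizer_singleton_iff.2 (hgens b a hb ha)
      exact (mem_centralizer_singleton_iff.1 (this (hgen ▸ mem_top t))).symm
    intro s t
    have : closure {b : P | υ b = b⁻¹} ≤ (centralizer ({π t} : Set (P ⧸ P3))).comap π := by
      rw [closure_le]
      intro b hb
      exact mem_centralizer_singleton_iff.2 (h1 b hb t)
    exact mem_centralizer_singleton_iff.1 (this (hgen ▸ mem_top s))
  intro s _ t _
  rw [← QuotientGroup.eq_one_iff, ← QuotientGroup.mk'_apply, map_commutatorElement,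
    commutatorElement_eq_one_iff_mul_comm]
  exact hab s t

/-- The inverted elements commute and have weight `e`. -/
theorem weight_lemma [Finite P] {r e m : ℕ} {υ ν ξ : MulAut P} (h : WeightHyp r e m υ ν ξ)
    {a b : P} (ha : υ a = a⁻¹) (hb : υ b = b⁻¹) : a * b = b * a ∧ ν a = a ^ e :=
  weight_lemma_aux r e m _ P υ ν ξ rfl h a b ha hb

end Cfsg.Agent.H27.E0
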