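import Cfsg.Agent.H27.E0.Linear
import Cfsg.Agent.H27.E0.Weight
import Cfsg.Agent.Coprime.Centralize
import Cfsg.Agent.PGroups.Burnside
import Cfsg.Agent.S0205

/-!
# Inverted elements on the Frattini quotient

`Q` is a self-centralising normal `r`-subgroup.  The fixed elements of the involution `u` in `Q` lie in a
cyclic group centralised by `n`, and `n` acts on the inverted ones by a power `e ≢ 1`.  An inverted element of
an odd overgroup `D` of `Q` containing `n`, with `r ∤ |D : Q|`, lies in `Q`.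
-/

set_option autoImplicit false
set_option linter.unusedSectionVars false
set_option linter.style.haveILetI false

namespace Cfsg.Agent.H27.E0

open Subgroup

universe u

variable {L : Type u} [Group L] [Finite L] {r : ℕ} [Fact r.Prime]

/-- The action by conjugation on the additive group of a quotient of a normal subgroup. -/
noncomputable def quotRep (Q : Subgroup L) [Q.Normal] (N : Subgroup Q) [N.Characteristic] :
    L →* MulAut (↥Q ⧸ N) where
  toFun g := QuotientGroup.congr N N (MulAut.conjNormal g) (characteristic_iff_map_eq.1 inferInstance _)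
  map_one' := MulEquiv.ext fun v => by
    obtain ⟨q, rfl⟩ := QuotientGroup.mk'_surjective N v
    show ((MulAut.conjNormal (1 : L) q : Q) : ↥Q ⧸ N) = _
    rw [map_one]
    rfl
  map_mul' g h := MulEquiv.ext fun v => by
    obtain ⟨q, rfl⟩ := QuotientGroup.mk'_surjective N v
    show ((MulAut.conjNormal (g * h) q : Q) : ↥Q ⧸ N) = _
    rw [map_mul]
    rfl

/-- The Frattini quotient of an `r`-group is commutative. -/
@[reducible] def quotCommGroup {P : Type u} [Group P] [Finite P] (hP : IsPGroup r P) :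
    CommGroup (P ⧸ frattini P) :=
  { (inferInstance : Group (P ⧸ frattini P)) with
    mul_comm := fun v w => by
      obtain ⟨a, rfl⟩ := QuotientGroup.mk'_surjective (frattini P) v
      obtain ⟨b, rfl⟩ := QuotientGroup.mk'_surjective (frattini P) w
      show QuotientGroup.mk' (frattini P) a * QuotientGroup.mk' (frattini P) b =
        QuotientGroup.mk' (frattini P) b * QuotientGroup.mk' (frattini P) a
      rw [← map_mul, ← map_mul]
      refine QuotientGroup.eq.2 (PGroups.commutator_le_frattini hP ?_)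
      have := commutator_mem_commutator (mem_top b⁻¹) (mem_top a⁻¹)
      rw [commutatorElement_def, inv_inv, inv_inv] at this
      rw [show (a * b)⁻¹ * (b * a) = b⁻¹ * a⁻¹ * b * a by group]
      exact this }

theorem quotRep_mk (Q : Subgroup L) [Q.Normal] (N : Subgroup Q) [N.Characteristic] (g : L) (q : Q) :
    quotRep Q N g (q : ↥Q ⧸ N) = ((MulAut.conjNormal g q : Q) : ↥Q ⧸ N) := rfl

/-- Automorphisms of an abelian group of prime exponent are linear. -/
noncomputable def zmodAut (r : ℕ) [Fact r.Prime] (W : Type u) [CommGroup W] [Module (ZMod r) (Additive W)] :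
    MulAut W →* (Additive W ≃ₗ[ZMod r] Additive W) where
  toFun f :=
    { ((MulEquiv.toAdditive f).toAddMonoidHom.toZModLinearMap r), (MulEquiv.toAdditive f) with }
  map_one' := LinearEquiv.ext fun _ => rfl
  map_mul' _ _ := LinearEquiv.ext fun _ => rfl

theorem mem_of_inverted_aux (hr : r ≠ 2) {W : Type u} [CommGroup W] [Finite W] (hexp : ∀ w : W, w ^ r = 1)
    {Q : Subgroup L} [Q.Normal] (φ : L →* MulAut W) (π : ↥Q →* W) (hπ : Function.Surjective π)
    (hker : π.ker = frattini ↥Q) (hφ : ∀ g q, φ g (π q) = π (MulAut.conjNormal g q))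
    (hQ : IsPGroup r Q)
    (hcent : centralizer (Q : Set L) ≤ Q) {u n y : L} (hu2 : u * u = 1) (hyQ : y ∈ Q)
    (hyu : Commute y u) (hfix : ∀ q ∈ Q, Commute q u → q ∈ zpowers y) (hny : Commute n y) {e : ℕ}
    (he1 : (e : ZMod r) ≠ 1) (hw : ∀ q ∈ Q, u * q * u⁻¹ = q⁻¹ → n * q * n⁻¹ = q ^ e) {D : Subgroup L}
    (hDodd : Odd (Nat.card D)) (hnD : n ∈ D) (hDr : ¬ r ∣ Q.relIndex D) {i : L} (hiD : i ∈ D)
    (hi : u * i * u⁻¹ = i⁻¹) : i ∈ Q := by
  have hrp : r.Prime := Fact.out
  have hmod : ∀ v : Additive W, r • v = 0 := fun v => hexp (Additive.toMul v)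
  haveI : Module (ZMod r) (Additive W) := AddCommGroup.zmodModule hmod
  haveI : Module.Finite (ZMod r) (Additive W) := Module.Finite.of_finite
  let ρ : L →* (Additive W ≃ₗ[ZMod r] Additive W) := (zmodAut r W).comp φ
  let cl : Q → Additive W := fun q => Additive.ofMul (π q)
  have hρcl : ∀ g q, ρ g (cl q) = cl (MulAut.conjNormal g q) := fun g q =>
    congrArg Additive.ofMul (hφ g q)
  have hsurj : ∀ v : Additive W, ∃ q, cl q = v := fun v => by
    obtain ⟨q, hq⟩ := hπ (Additive.toMul v)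
    exact ⟨q, congrArg Additive.ofMul hq⟩
  have hclmul : ∀ q q', cl (q * q') = cl q + cl q' := fun q q' =>
    congrArg Additive.ofMul (map_mul π q q')
  have hclinv : ∀ q, cl q⁻¹ = -cl q := fun q => congrArg Additive.ofMul (map_inv π q)
  have hQker : Q ≤ ρ.ker := by
    intro g hg
    refine LinearEquiv.ext fun v => ?_
    obtain ⟨q, rfl⟩ := hsurj v
    rw [hρcl, show MulAut.conjNormal g q = ⟨g, hg⟩ * q * ⟨g, hg⟩⁻¹ from Subtype.ext rfl, hclmul,
      hclmul, hclinv, LinearEquiv.coe_one, id, add_neg_cancel_comm]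
  have h2 : (2 : ZMod r) ≠ 0 := fun h => hr <| by
    have h' : ((2 : ℕ) : ZMod r) = 0 := by simpa using h
    exact (Nat.prime_dvd_prime_iff_eq hrp Nat.prime_two).1 ((ZMod.natCast_eq_zero_iff _ _).1 h')
  have hself : ∀ v : Additive W, v = -v → v = 0 := fun v h => by
    rw [eq_neg_iff_add_eq_zero, ← two_smul (ZMod r), smul_eq_zero] at h
    exact h.resolve_left h2
  have hnat : ∀ (k : ℕ) (q : Q), cl (q ^ k) = (k : ZMod r) • cl q := fun k q => by
    rw [Nat.cast_smul_eq_nsmul]
    exact congrArg Additive.ofMul (map_pow π q k)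
  have hPodd : Odd (Nat.card Q) := by
    obtain ⟨k, hk⟩ := IsPGroup.iff_card.1 hQ
    rw [hk]
    exact (hrp.odd_of_ne_two hr).pow
  have hυ : ∀ q : Q, MulAut.conjNormal u (MulAut.conjNormal u q) = q := fun q => by
    rw [← MulAut.mul_apply, ← map_mul, hu2, map_one]
    rfl
  have hdec : ∀ v : Additive W, ∃ f i : Q, MulAut.conjNormal u f = f ∧ MulAut.conjNormal u i = i⁻¹ ∧
      v = cl f + cl i := fun v => by
    obtain ⟨q, rfl⟩ := hsurj v
    obtain ⟨f, i, hf, hi, rfl⟩ := exists_fixed_mul_inverted hPodd hυ q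
    exact ⟨f, i, hf, hi, hclmul f i⟩
  let γ := ρ n
  let ε := ρ u
  have hfix' : ∀ f : Q, MulAut.conjNormal u f = f → ∃ t : ZMod r, cl f = t • cl ⟨y, hyQ⟩ := fun f hf => by
    have h : u * (f : L) * u⁻¹ = f := congrArg Subtype.val hf
    obtain ⟨k, hk⟩ := mem_zpowers_iff.1 (hfix f f.2 (mul_inv_eq_iff_eq_mul.1 h).symm)
    refine ⟨(k : ZMod r), ?_⟩
    rw [Int.cast_smul_eq_zsmul, show f = (⟨y, hyQ⟩ : Q) ^ k from Subtype.ext (by
      rw [Subgroup.coe_zpow]; exact hk.symm)]
    exact congrArg Additive.ofMul (map_zpow π _ k)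
  have hΓodd : Odd (Nat.card (D.map ρ)) := hDodd.of_dvd_nat (card_map_dvd D ρ)
  have hΓr : ¬ r ∣ Nat.card (D.map ρ) := fun h => hDr <| h.trans <| by
    rw [← relIndex_ker]
    exact relIndex_dvd_of_le_left D hQker
  haveI : Finite (D.map ρ) := Finite.of_surjective _ (ρ.subgroupMap_surjective D)
  haveI : Group.IsSolvable D := S0205.result hDodd
  have key : ρ i = 1 := by
    refine eq_one_of_inverted h2 (D.map ρ) hΓodd
      (fun h => hΓr ((ZMod.natCast_eq_zero_iff _ _).1 h))
      (Group.isSolvable_of_surjective (ρ.subgroupMap_surjective D)) (γ := γ) (ε := ε)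
      ⟨i, hiD, rfl⟩ ⟨n, hnD, rfl⟩ (y := cl ⟨y, hyQ⟩) (c := (e : ZMod r))
      (fun v => ?_) (fun v => ?_) ?_ (fun v hv => ?_) ?_ he1 (fun v hv => ?_)
    · show ρ u (ρ u v) = v
      rw [← LinearEquiv.mul_apply, ← map_mul, hu2, map_one]
      rfl
    · show ρ u (ρ i v) = (ρ i)⁻¹ (ρ u v)
      rw [← map_inv, ← LinearEquiv.mul_apply, ← LinearEquiv.mul_apply, ← map_mul, ← map_mul, ← hi,
        inv_mul_cancel_right]
    · show ρ u _ = _
      rw [hρcl]
      exact congrArg cl (Subtype.ext (show u * y * u⁻¹ = y by rw [← hyu.eq, mul_inv_cancel_right]))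
    · obtain ⟨f, j, hf, hj, rfl⟩ := hdec v
      change ρ u _ = _ at hv
      rw [map_add, hρcl, hρcl, hf, hj, hclinv, add_right_inj] at hv
      rw [hself _ hv.symm, add_zero]
      exact hfix' f hf
    · show ρ n _ = _
      rw [hρcl]
      exact congrArg cl (Subtype.ext (show n * y * n⁻¹ = y by rw [hny.eq, mul_inv_cancel_right]))
    · obtain ⟨f, j, hf, hj, rfl⟩ := hdec v
      change ρ u _ = _ at hv
      rw [map_add, hρcl, hρcl, hf, hj, hclinv, neg_add, add_left_inj] at hv
      rw [hself _ hv, zero_add, ← hnat]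
      show ρ n _ = _
      rw [hρcl]
      refine congrArg cl (Subtype.ext ?_)
      show n * (j : L) * n⁻¹ = _
      rw [Subgroup.coe_pow]
      exact hw j j.2 (congrArg Subtype.val hj)
  -- an element acting trivially on the Frattini quotient is an `r`-element
  obtain ⟨k, m, hm, hkm⟩ : ∃ k m, ¬ r ∣ m ∧ orderOf i = r ^ k * m :=
    Nat.exists_eq_pow_mul_and_not_dvd (orderOf_pos i).ne' r hrp.ne_one
  have hmem : i ^ r ^ k ∈ centralizer (Q : Set L) := by
    refine Coprime.le_centralizer_of_frattini (A := zpowers (i ^ r ^ k)) ?_ ?_ ?_ (mem_zpowers _)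
    · rw [normalizer_eq_top]
      exact le_top
    · rw [Nat.card_zpowers]
      obtain ⟨l, hl⟩ := IsPGroup.iff_card.1 (hQ.to_subgroup (frattini Q))
      rw [hl]
      refine (Nat.Coprime.of_dvd_left (orderOf_dvd_of_pow_eq_one ?_)
        (hrp.coprime_iff_not_dvd.2 hm).symm).pow_right l
      rw [← pow_mul, ← hkm, pow_orderOf_eq_one]
    · intro g hg q hq
      obtain ⟨z, rfl⟩ := mem_zpowers_iff.1 hg
      have h1 : ρ ((i ^ r ^ k) ^ z) = 1 := by rw [map_zpow, map_pow, key, one_pow, one_zpow]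
      have h3 : cl (MulAut.conjNormal ((i ^ r ^ k) ^ z) ⟨q, hq⟩) = cl ⟨q, hq⟩ := by
        rw [← hρcl, h1]
        rfl
      refine ⟨MulAut.conjNormal ((i ^ r ^ k) ^ z) ⟨q, hq⟩ * (⟨q, hq⟩ : Q)⁻¹,
        ?_, rfl⟩
      have h4 := congrArg Additive.toMul h3
      rw [SetLike.mem_coe, ← hker, MonoidHom.mem_ker, map_mul, map_inv, mul_inv_eq_one]
      exact h4
  -- hence it lies in `Q`
  have ho1 : orderOf (QuotientGroup.mk' Q i) ∣ r ^ k := orderOf_dvd_of_pow_eq_one (by
    rw [← map_pow]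
    exact (QuotientGroup.eq_one_iff _).2 (hcent hmem))
  have ho2 : orderOf (QuotientGroup.mk' Q i) ∣ Q.relIndex D := by
    have h := orderOf_dvd_natCard (D.map (QuotientGroup.mk' Q))
      (⟨i, hiD, rfl⟩ : QuotientGroup.mk' Q i ∈ D.map (QuotientGroup.mk' Q))
    have h' := relIndex_ker (QuotientGroup.mk' Q) (K := D)
    rw [QuotientGroup.ker_mk'] at h'
    rwa [h']
  exact (QuotientGroup.eq_one_iff i).1 (orderOf_eq_one_iff.1
    (Nat.eq_one_of_dvd_coprimes ((hrp.coprime_iff_not_dvd.2 hDr).pow_left k) ho1 ho2))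

theorem mem_of_inverted (hr : r ≠ 2) {Q : Subgroup L} [Q.Normal] (hQ : IsPGroup r Q)
    (hcent : centralizer (Q : Set L) ≤ Q) {u n y : L} (hu2 : u * u = 1) (hyQ : y ∈ Q)
    (hyu : Commute y u) (hfix : ∀ q ∈ Q, Commute q u → q ∈ zpowers y) (hny : Commute n y) {e : ℕ}
    (he1 : (e : ZMod r) ≠ 1) (hw : ∀ q ∈ Q, u * q * u⁻¹ = q⁻¹ → n * q * n⁻¹ = q ^ e) {D : Subgroup L}
    (hDodd : Odd (Nat.card D)) (hnD : n ∈ D) (hDr : ¬ r ∣ Q.relIndex D) {i : L} (hiD : i ∈ D)
    (hi : u * i * u⁻¹ = i⁻¹) : i ∈ Q := by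
  refine @mem_of_inverted_aux L _ _ r _ hr (↥Q ⧸ frattini ↥Q) (quotCommGroup hQ) inferInstance
    (fun w => ?_) Q _ (quotRep Q (frattini ↥Q)) (QuotientGroup.mk' (frattini ↥Q))
    (QuotientGroup.mk'_surjective _) (QuotientGroup.ker_mk' _) (fun g q => rfl) hQ hcent u n y hu2 hyQ
    hyu hfix hny e he1 hw D hDodd hnD hDr i hiD hi
  obtain ⟨a, rfl⟩ := QuotientGroup.mk'_surjective (frattini ↥Q) w
  rw [← map_pow]
  exact (QuotientGroup.eq_one_iff _).2 (PGroups.pow_mem_frattini hQ a)

end Cfsg.Agent.H27.E0
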