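import Cfsg.Agent.H27.E0.Plane
import Mathlib.LinearAlgebra.Dimension.Constructions
import Mathlib.LinearAlgebra.FiniteDimensional.Basic

/-!
# An element inverted by a near-scalar involution

`ε` is an involution whose fixed vectors form at most a line and `γ` is trivial on that line and a scalar
`c ≠ 1` on the negated vectors.  An element inverted by `ε` which generates with `γ` an odd soluble group of
order prime to the characteristic is trivial.
-/

set_option autoImplicit false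
set_option linter.unusedSectionVars false
set_option linter.style.haveILetI false

namespace Cfsg.Agent.H27.E0

open Subgroup Module

universe u v

variable {F : Type u} [Field F] {V : Type v} [AddCommGroup V] [Module F V] [Module.Finite F V]

/-- The linear automorphisms preserving a submodule in both directions. -/
def stab (W : Submodule F V) : Subgroup (V ≃ₗ[F] V) where
  carrier := {g | ∀ v, g v ∈ W ↔ v ∈ W}
  one_mem' _ := Iff.rfl
  mul_mem' {g h} hg hh v := (hg (h v)).trans (hh v)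
  inv_mem' {g} hg v := by
    have h := (hg (g⁻¹ v)).symm
    rwa [show g (g⁻¹ v) = v from g.apply_symm_apply v] at h

/-- Restriction to the submodule. -/
def stabRes (W : Submodule F V) : stab W →* (W ≃ₗ[F] W) where
  toFun g :=
    { toFun := fun w => ⟨(g : V ≃ₗ[F] V) w, (g.2 w).2 w.2⟩
      map_add' := fun a b => Subtype.ext (map_add (g : V ≃ₗ[F] V) (a : V) b)
      map_smul' := fun c a => Subtype.ext (map_smul (g : V ≃ₗ[F] V) c (a : V))
      invFun := fun w => ⟨(g : V ≃ₗ[F] V)⁻¹ w, ((g⁻¹).2 w).2 w.2⟩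
      left_inv := fun w => Subtype.ext ((g : V ≃ₗ[F] V).symm_apply_apply (w : V))
      right_inv := fun w => Subtype.ext ((g : V ≃ₗ[F] V).apply_symm_apply (w : V)) }
  map_one' := rfl
  map_mul' _ _ := rfl

theorem apply_pow_of_sq_zero {a : V ≃ₗ[F] V} {v : V} (h : a (a v - v) = a v - v) :
    ∀ k : ℕ, (a ^ k) v = v + (k : F) • (a v - v) := by
  intro k
  induction k with
  | zero => simp
  | succ k ih =>
    rw [pow_succ', LinearEquiv.mul_apply, ih, map_add, map_smul, h, Nat.cast_succ, add_smul, one_smul]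
    abel

/-- The element is trivial. -/
theorem eq_one_of_inverted (h2F : (2 : F) ≠ 0) (Γ : Subgroup (V ≃ₗ[F] V)) [Finite Γ]
    (hodd : Odd (Nat.card Γ)) (hcop : (Nat.card Γ : F) ≠ 0) (hsol : Group.IsSolvable Γ)
    {a γ ε : V ≃ₗ[F] V} (ha : a ∈ Γ) (hγ : γ ∈ Γ) (hε : ∀ v, ε (ε v) = v)
    (hinv : ∀ v, ε (a v) = a⁻¹ (ε v)) {y : V} (hy : ε y = y)
    (hfix : ∀ v, ε v = v → ∃ t : F, v = t • y) (hγy : γ y = y) {c : F} (hc : c ≠ 1)
    (hneg : ∀ v, ε v = -v → γ v = c • v) : a = 1 := by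
  have hk : (orderOf a : F) ≠ 0 := by
    obtain ⟨d, hd⟩ := orderOf_dvd_natCard Γ ha
    intro h
    exact hcop (by rw [hd, Nat.cast_mul, h, zero_mul])
  obtain ⟨l, hl⟩ : Odd (orderOf a) := hodd.of_dvd_nat (orderOf_dvd_natCard Γ ha)
  set T : V →ₗ[F] V := (a : V →ₗ[F] V) - LinearMap.id with hT
  set W : Submodule F V := LinearMap.range T with hW
  have hTv : ∀ v, T v = a v - v := fun v => rfl
  have haW : ∀ v, a v ∈ W ↔ v ∈ W := fun v =>
    ⟨fun h => by
      have h' := W.sub_mem h (⟨v, rfl⟩ : T v ∈ W)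
      rwa [hTv, sub_sub_cancel] at h', fun h => by
      have h' := W.add_mem h (⟨v, rfl⟩ : T v ∈ W)
      rwa [hTv, add_sub_cancel] at h'⟩
  have haS : a ∈ stab W := haW
  have haiW : ∀ v, v ∈ W → a⁻¹ v ∈ W := fun v hv => ((inv_mem haS) v).2 hv
  have hεW : ∀ v, v ∈ W → ε v ∈ W := by
    rintro _ ⟨v, rfl⟩
    rw [hTv, map_sub, hinv]
    have h := W.neg_mem (haiW _ ⟨ε v, rfl⟩)
    rw [hTv, map_sub, show a⁻¹ (a (ε v)) = ε v from a.symm_apply_apply _, neg_sub] at h
    exact h
  have hnofix : ∀ w ∈ W, a w = w → w = 0 := by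
    rintro _ ⟨v, rfl⟩ h
    rw [hTv] at h ⊢
    have h' := apply_pow_of_sq_zero h (orderOf a)
    rw [pow_orderOf_eq_one, LinearEquiv.coe_one, id, left_eq_add] at h'
    exact (smul_eq_zero.1 h').resolve_left hk
  set d : V →ₗ[F] V := (a : V →ₗ[F] V) - ((a⁻¹ : V ≃ₗ[F] V) : V →ₗ[F] V) with hd
  have hdv : ∀ v, d v = a v - a⁻¹ v := fun v => rfl
  have hdW : ∀ w ∈ W, d w ∈ W := fun w hw => W.sub_mem ((haW w).2 hw) (haiW w hw)
  have hdinj : ∀ w ∈ W, d w = 0 → w = 0 := by
    intro w hw h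
    refine hnofix w hw ?_
    rw [hdv, sub_eq_zero] at h
    have h2 : (a ^ 2) w = w := by
      rw [pow_two, LinearEquiv.mul_apply, h]
      exact a.apply_symm_apply w
    have h3 : ∀ j : ℕ, (a ^ (2 * j)) w = w := by
      intro j
      induction j with
      | zero => simp
      | succ j ih => rw [Nat.mul_succ, pow_add, LinearEquiv.mul_apply, h2, ih]
    have h4 : a ^ (2 * (l + 1)) = a := by
      rw [show 2 * (l + 1) = orderOf a + 1 by omega, pow_succ, pow_orderOf_eq_one, one_mul]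
    rw [← h4]
    exact h3 (l + 1)
  have hεd : ∀ v, ε (d v) = -d (ε v) := by
    intro v
    have hinv' : ε (a⁻¹ v) = a (ε v) := by
      have h := hinv (ε (a (ε v)))
      rw [hε] at h
      have h5 := hinv (ε v)
      rw [hε] at h5
      rw [← h5, hε]
    rw [hdv, hdv, map_sub, hinv, hinv', neg_sub]
  have hhalf : ∀ w : V, w = (2 : F)⁻¹ • (w + ε w) + (2 : F)⁻¹ • (w - ε w) := fun w => by
    rw [← smul_add, show w + ε w + (w - ε w) = (2 : F) • w by rw [two_smul]; abel, smul_smul,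
      inv_mul_cancel₀ h2F, one_smul]
  have hplus : ∀ w : V, ε (w + ε w) = w + ε w := fun w => by rw [map_add, hε, add_comm]
  have hminus : ∀ w : V, ε (w - ε w) = -(w - ε w) := fun w => by rw [map_sub, hε, neg_sub]
  have hW0 : W = ⊥ → a = 1 := fun h => LinearEquiv.ext fun v => by
    have h' : T v ∈ W := ⟨v, rfl⟩
    rw [h, Submodule.mem_bot, hTv, sub_eq_zero] at h'
    exact h'
  refine hW0 ?_
  by_contra hne
  have hyW : y ∈ W ∧ y ≠ 0 := by
    by_contra hyW
    have hfix0 : ∀ w ∈ W, ε w = w → w = 0 := by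
      intro w hw he
      obtain ⟨t, rfl⟩ := hfix w he
      by_contra h0
      rw [smul_eq_zero, not_or] at h0
      exact hyW ⟨by simpa [smul_smul, inv_mul_cancel₀ h0.1] using W.smul_mem t⁻¹ hw, h0.2⟩
    refine hne ((Submodule.eq_bot_iff _).2 fun w hw => ?_)
    have h1 : w + ε w = 0 := hfix0 _ (W.add_mem hw (hεW w hw)) (hplus w)
    have h2 : ε w = -w := eq_neg_of_add_eq_zero_right h1
    exact hdinj w hw (hfix0 _ (hdW w hw) (by rw [hεd, h2, map_neg, neg_neg]))
  obtain ⟨hyW, hy0⟩ := hyW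
  set y' := d y with hy'
  have hy'W : y' ∈ W := hdW y hyW
  have hy'0 : y' ≠ 0 := fun h => hy0 (hdinj y hyW h)
  have hy'n : ε y' = -y' := by rw [hy', hεd, hy]
  obtain ⟨s, hs⟩ := hfix (d y') (by rw [hεd, hy'n, map_neg, neg_neg])
  have hs0 : s ≠ 0 := fun h => hy'0 (hdinj y' hy'W (by rw [hs, h, zero_smul]))
  have hmem : ∀ w ∈ W, ∃ α β : F, w = α • y + β • y' := by
    intro w hw
    obtain ⟨t, ht⟩ := hfix _ (hplus w)
    have hwm : w - ε w ∈ W := W.sub_mem hw (hεW w hw)
    obtain ⟨t', ht'⟩ := hfix (d (w - ε w)) (by rw [hεd, hminus, map_neg, neg_neg])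
    have he : w - ε w = (t' / s) • y' := by
      refine sub_eq_zero.1 (hdinj _ (W.sub_mem hwm (W.smul_mem _ hy'W)) ?_)
      rw [map_sub, ht', map_smul, hs, smul_smul, div_mul_cancel₀ _ hs0, sub_self]
    refine ⟨(2 : F)⁻¹ * t, (2 : F)⁻¹ * (t' / s), ?_⟩
    conv_lhs => rw [hhalf w]
    rw [ht, he, smul_smul, smul_smul]
  have hindep : ∀ α β : F, α • y + β • y' = 0 → α = 0 ∧ β = 0 := by
    intro α β h
    have h' := congrArg ε h
    rw [map_add, map_smul, map_smul, hy, hy'n, map_zero, smul_neg] at h'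
    have h2 : α • y = β • y' := add_neg_eq_zero.1 h'
    rw [h2, ← two_smul F, smul_smul, smul_eq_zero, mul_eq_zero] at h
    have hβ : β = 0 := (h.resolve_right hy'0).resolve_left h2F
    rw [hβ, zero_smul, smul_eq_zero] at h2
    exact ⟨h2.resolve_right hy0, hβ⟩
  have hfin : finrank F W = 2 := by
    have hb : LinearIndependent F ![(⟨y, hyW⟩ : W), ⟨y', hy'W⟩] :=
      LinearIndependent.pair_iff.2 fun α β h => hindep α β (congrArg Subtype.val h)
    have hspan : Submodule.span F (Set.range ![(⟨y, hyW⟩ : W), ⟨y', hy'W⟩]) = ⊤ := by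
      refine eq_top_iff.2 fun w _ => ?_
      obtain ⟨α, β, h⟩ := hmem w w.2
      rw [show w = α • (⟨y, hyW⟩ : W) + β • ⟨y', hy'W⟩ from Subtype.ext h]
      exact add_mem (Submodule.smul_mem _ _ (Submodule.subset_span ⟨0, rfl⟩))
        (Submodule.smul_mem _ _ (Submodule.subset_span ⟨1, rfl⟩))
    rw [finrank_eq_card_basis (Basis.mk hb hspan.ge), Fintype.card_fin]
  have hγW : ∀ w ∈ W, γ w ∈ W := by
    intro w hw
    obtain ⟨α, β, rfl⟩ := hmem w hw
    rw [map_add, map_smul, map_smul, hγy, hneg y' hy'n]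
    exact W.add_mem (W.smul_mem _ hyW) (W.smul_mem _ (W.smul_mem _ hy'W))
  have hγS : γ ∈ stab W := fun v => ⟨fun h => by
    have hpow : ∀ k : ℕ, ∀ w ∈ W, (γ ^ k) w ∈ W := by
      intro k
      induction k with
      | zero => intro w hw; simpa using hw
      | succ k ih => intro w hw; rw [pow_succ, LinearEquiv.mul_apply]; exact ih _ (hγW w hw)
    have hfo : 0 < orderOf γ := Nat.pos_of_dvd_of_pos (orderOf_dvd_natCard Γ hγ) Nat.card_pos
    have h' := hpow (orderOf γ - 1) _ h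
    rwa [← LinearEquiv.mul_apply, ← pow_succ, Nat.sub_add_cancel hfo, pow_orderOf_eq_one] at h',
    hγW v⟩
  set Γ' : Subgroup (W ≃ₗ[F] W) := (Γ.subgroupOf (stab W)).map (stabRes W) with hΓ'
  haveI : Finite ↥(Γ.subgroupOf (stab W)) := Finite.of_injective
    (fun g => (⟨((g : stab W) : V ≃ₗ[F] V), g.2⟩ : Γ))
    fun g h e => Subtype.ext (Subtype.ext (congrArg Subtype.val e : _))
  have hinjΓ : Function.Injective (fun g : ↥(Γ.subgroupOf (stab W)) =>
      (⟨((g : stab W) : V ≃ₗ[F] V), g.2⟩ : Γ)) :=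
    fun g h e => Subtype.ext (Subtype.ext (congrArg Subtype.val e : _))
  let j : ↥(Γ.subgroupOf (stab W)) →* Γ :=
    { toFun := fun g => ⟨((g : stab W) : V ≃ₗ[F] V), g.2⟩, map_one' := rfl, map_mul' := fun _ _ => rfl }
  haveI : Finite Γ' := Finite.of_surjective _ ((stabRes W).subgroupMap_surjective _)
  have hdvd : Nat.card Γ' ∣ Nat.card Γ :=
    (Subgroup.card_dvd_of_surjective _ ((stabRes W).subgroupMap_surjective _)).trans
      (Subgroup.card_dvd_of_injective j hinjΓ)
  have hcop' : (Nat.card Γ' : F) ≠ 0 := by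
    obtain ⟨k, hk⟩ := hdvd
    intro h
    exact hcop (by rw [hk, Nat.cast_mul, h, zero_mul])
  haveI := hsol
  haveI : Group.IsSolvable ↥(Γ.subgroupOf (stab W)) := Group.isSolvable_of_isSolvable_injective (f := j) hinjΓ
  have hcomm := commute_of_odd hfin h2F Γ' (hodd.of_dvd_nat hdvd) hcop'
    (Group.isSolvable_of_surjective ((stabRes W).subgroupMap_surjective _))
    (a := stabRes W ⟨a, haS⟩) (b := stabRes W ⟨γ, hγS⟩) ⟨⟨a, haS⟩, ha, rfl⟩ ⟨⟨γ, hγS⟩, hγ, rfl⟩
  have hay : γ (a y) = a y := by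
    have h : a (γ y) = γ (a y) := congrArg Subtype.val (LinearEquiv.congr_fun hcomm (⟨y, hyW⟩ : W))
    rw [← h, hγy]
  obtain ⟨α, β, hab⟩ := hmem (a y) ((haW y).2 hyW)
  have hβ : β = 0 := by
    rw [hab, map_add, map_smul, map_smul, hγy, hneg y' hy'n, add_right_inj, smul_smul,
      ← sub_eq_zero, ← sub_smul, smul_eq_zero] at hay
    have h := hay.resolve_right hy'0
    rw [← mul_sub_one, mul_eq_zero] at h
    exact h.resolve_right (sub_ne_zero.2 hc)
  rw [hβ, zero_smul, add_zero] at hab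
  have hai : a⁻¹ y = α • y := by
    have h := hinv y
    rw [hy, hab, map_smul, hy] at h
    exact h.symm
  exact hy'0 (by rw [hy', hdv, hab, hai, sub_self])

end Cfsg.Agent.H27.E0
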