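import Cfsg.Agent.Coprime.Action
import Cfsg.Agent.Thompson.ZJFusion
import Cfsg.Agent.Thompson.PStable
import Cfsg.Agent.Fusion.Basic
import Cfsg.Agent.H84.HallNum.Basic
import Cfsg.Agent.S0205

/-!
# Odd overgroups that control transfer

When four-groups normalise no `r`-subgroup containing the data, the normaliser of `Z(J(R))` is an odd group
extended by the involution `u` for a suitable `u`-invariant Sylow `r`-subgroup `R`.
-/

set_option autoImplicit false
set_option linter.unusedSectionVars false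
set_option linter.style.haveILetI false

namespace Cfsg.Agent.H27.E0

open Subgroup

universe w

variable {G : Type w} [Group G] [Finite G]

/-- A four-group: commutative of order four and exponent two. -/
structure IsFour (V : Subgroup G) : Prop where
  comm : IsMulCommutative V
  card : Nat.card V = 4
  sq : ∀ v ∈ V, v * v = 1

theorem le_normalizer_zpowers {u : G} {K : Subgroup G} (h : u ∈ normalizer (K : Set G)) :
    zpowers u ≤ normalizer (K : Set G) := zpowers_le.2 h

/-- A subgroup of order divisible by four containing `u` contains a four-group containing `u`. -/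
theorem exists_four (hexp : ∀ Q : Subgroup G, IsPGroup 2 Q → ∀ a ∈ Q, a * a = 1) {M : Subgroup G} {u : G}
    (hu : orderOf u = 2) (huM : u ∈ M) (h4 : 4 ∣ Nat.card M) :
    ∃ V : Subgroup G, V ≤ M ∧ u ∈ V ∧ IsFour V := by
  haveI : Fact (Nat.Prime 2) := ⟨Nat.prime_two⟩
  have hu2 : u * u = 1 := by
    have := pow_orderOf_eq_one u
    rwa [hu, pow_two] at this
  have hp : IsPGroup 2 (zpowers (⟨u, huM⟩ : M)) :=
    IsPGroup.of_card (n := 1) (by rw [Nat.card_zpowers, ← Subgroup.orderOf_coe, hu, pow_one])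
  obtain ⟨Q, hQ⟩ := hp.exists_le_sylow
  have hsq := hexp _ (Q.isPGroup'.map M.subtype)
  have huQ : u ∈ (Q : Subgroup M).map M.subtype := ⟨_, hQ (mem_zpowers _), rfl⟩
  obtain ⟨v, hv, hv1, hvu⟩ : ∃ v ∈ (Q : Subgroup M).map M.subtype, v ≠ 1 ∧ v ≠ u := by
    by_contra! h
    have hsub : (((Q : Subgroup M).map M.subtype : Subgroup G) : Set G) ⊆ {1, u} := fun v hv => by
      by_cases hv1 : v = 1
      · exact Or.inl hv1
      · exact Or.inr (h v hv hv1)
    have h2 : Nat.card ↥({1, u} : Set G) ≤ 2 := by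
      rw [Nat.card_coe_set_eq]
      exact (Set.ncard_insert_le _ _).trans (by simp)
    have hle : Nat.card ((Q : Subgroup M).map M.subtype) ≤ 2 :=
      (Nat.card_mono (Set.toFinite _) hsub).trans h2
    have h4' : 2 ^ 2 ∣ Nat.card (Q : Subgroup M) := Q.pow_dvd_card_of_pow_dvd_card (by simpa using h4)
    rw [← Subgroup.card_map_of_injective M.subtype_injective] at h4'
    exact absurd (Nat.le_of_dvd Nat.card_pos h4') (by omega)
  have hvv := hsq v hv
  have huv : u * v = v * u := by
    have h := hsq _ (mul_mem huQ hv)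
    calc u * v = u * v * ((v * u) * (v * u)) := by rw [hsq _ (mul_mem hv huQ), mul_one]
      _ = u * (v * v) * u * (v * u) := by group
      _ = v * u := by rw [hvv, mul_one, hu2, one_mul]
  have hw := hsq _ (mul_mem huQ hv)
  let V : Subgroup G :=
    { carrier := {g | g = 1 ∨ g = u ∨ g = v ∨ g = u * v}
      one_mem' := Or.inl rfl
      mul_mem' := by
        have h1 : u * (u * v) = v := by rw [← mul_assoc, hu2, one_mul]
        have h2 : v * (u * v) = u := by rw [← mul_assoc, ← huv, mul_assoc, hvv, mul_one]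
        have h3 : u * v * u = v := by rw [huv, mul_assoc, hu2, mul_one]
        have h4 : u * v * v = u := by rw [mul_assoc, hvv, mul_one]
        rintro a b (rfl | rfl | rfl | rfl) (rfl | rfl | rfl | rfl) <;>
          simp [hu2, hvv, hw, h1, h2, h3, h4, ← huv]
      inv_mem' := by
        rintro a (rfl | rfl | rfl | rfl)
        · exact Or.inl inv_one
        · exact Or.inr (Or.inl (inv_eq_of_mul_eq_one_right hu2))
        · exact Or.inr (Or.inr (Or.inl (inv_eq_of_mul_eq_one_right hvv)))
        · exact Or.inr (Or.inr (Or.inr (inv_eq_of_mul_eq_one_right hw))) }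
  have hVQ : V ≤ (Q : Subgroup M).map M.subtype := by
    rintro g (rfl | rfl | rfl | rfl)
    exacts [one_mem _, huQ, hv, mul_mem huQ hv]
  refine ⟨V, hVQ.trans (map_subtype_le _), Or.inr (Or.inl rfl), ⟨⟨fun a b => Subtype.ext ?_⟩⟩, ?_,
    fun g hg => hsq g (hVQ hg)⟩
  · show (a : G) * b = b * a
    have h1 : u * (u * v) = v := by rw [← mul_assoc, hu2, one_mul]
    have h2 : v * (u * v) = u := by rw [← mul_assoc, ← huv, mul_assoc, hvv, mul_one]
    have h3 : u * v * u = v := by rw [huv, mul_assoc, hu2, mul_one]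
    have h4 : u * v * v = u := by rw [mul_assoc, hvv, mul_one]
    rcases a.2 with e | e | e | e <;> rcases b.2 with e' | e' | e' | e' <;> rw [e, e'] <;>
      simp [hu2, hvv, hw, h1, h2, h3, h4, ← huv]
  · have hu1 : u ≠ 1 := fun e => by rw [e, orderOf_one] at hu; omega
    have e : (V : Set G) = {1, u, v, u * v} := rfl
    rw [show Nat.card V = Nat.card ↥(V : Set G) from rfl, Nat.card_coe_set_eq, e]
    have e1 : (1 : G) ∉ ({u, v, u * v} : Set G) := by
      simp only [Set.mem_insert_iff, Set.mem_singleton_iff, not_or]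
      exact ⟨Ne.symm hu1, Ne.symm hv1, fun e => hvu (by
        have h2 := congrArg (u * ·) e
        simp only [← mul_assoc, hu2, one_mul, mul_one] at h2
        exact h2.symm)⟩
    have e2 : u ∉ ({v, u * v} : Set G) := by
      simp only [Set.mem_insert_iff, Set.mem_singleton_iff, not_or]
      exact ⟨Ne.symm hvu, fun e => hv1 (left_eq_mul.1 e)⟩
    rw [Set.ncard_insert_of_notMem e1, Set.ncard_insert_of_notMem e2, Set.ncard_pair]
    exact fun e => hu1 (right_eq_mul.1 e)

/-- A group of order not divisible by four containing `u` is an odd group extended by `u`. -/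
theorem exists_odd_part {M : Subgroup G} {u : G} (hu : orderOf u = 2) (huM : u ∈ M)
    (h4 : ¬ 4 ∣ Nat.card M) : ∃ H : Subgroup G, H ≤ M ∧ Odd (Nat.card H) ∧ u ∈ normalizer (H : Set G) ∧
      (∀ g ∈ M, Odd (orderOf g) → g ∈ H) ∧ M ≤ H ⊔ zpowers u := by
  haveI : Fact (Nat.Prime 2) := ⟨Nat.prime_two⟩
  obtain ⟨P, N, hN, hc⟩ := H84.HallNum.hasNormalPComplement_of_not_four_dvd h4
  haveI := hN
  have hodd : Odd (Nat.card N) :=
    Nat.not_even_iff_odd.1 fun he => Fusion.not_dvd_card_of_isComplement' P hc he.two_dvd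
  refine ⟨N.map M.subtype, map_subtype_le _, ?_, ?_, ?_, ?_⟩
  · rwa [Subgroup.card_map_of_injective M.subtype_injective]
  · have h : (⟨u, huM⟩ : M) ∈ normalizer (N : Set M) := by rw [normalizer_eq_top]; exact mem_top _
    refine mem_normalizer_iff.2 fun x => ⟨?_, fun hx => ?_⟩
    · rintro ⟨y, hy, rfl⟩
      exact ⟨_, (mem_normalizer_iff.1 h y).1 hy, rfl⟩
    · obtain ⟨y, hy, he⟩ := hx
      refine ⟨(⟨u, huM⟩ : M)⁻¹ * y * ⟨u, huM⟩, ?_, ?_⟩
      · have := hN.conj_mem y hy (⟨u, huM⟩ : M)⁻¹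
        rwa [inv_inv] at this
      · show u⁻¹ * (y : G) * u = x
        rw [show (y : G) = u * x * u⁻¹ from he]
        group
  all_goals
    have hmem : ∀ g : M, Odd (orderOf g) → g ∈ N := fun g hg => by
      have hp := Fusion.isPGroup_quotient_of_isComplement' P hc
      obtain ⟨k, hk⟩ := hp (QuotientGroup.mk' N g)
      have h1 := orderOf_dvd_of_pow_eq_one hk
      have h2 := (orderOf_map_dvd (QuotientGroup.mk' N) g)
      have h3 : orderOf (QuotientGroup.mk' N g) = 1 :=
        Nat.eq_one_of_dvd_coprimes ((Nat.coprime_two_left.2 hg).pow_left k) h1 h2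
      exact (QuotientGroup.eq_one_iff g).1 (orderOf_eq_one_iff.1 h3)
  · intro g hg ho
    exact ⟨⟨g, hg⟩, hmem _ (by rwa [← Subgroup.orderOf_coe]), rfl⟩
  · intro g hg
    have hidx : N.index = 2 := by
      rw [hc.symm.index_eq_card]
      obtain ⟨k, hk⟩ := IsPGroup.iff_card.1 P.isPGroup'
      rw [hk]
      have h1 : 2 ∣ Nat.card M := by
        rw [← hu]
        exact orderOf_dvd_natCard M huM
      have h2 : k ≤ 1 := by
        by_contra hk1
        exact h4 ((Nat.pow_dvd_pow 2 (show 2 ≤ k by omega)).trans (hk ▸ card_subgroup_dvd_card _))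
      interval_cases k
      · exfalso
        have := hc.card_mul
        rw [hk, pow_zero, mul_one] at this
        rw [← this] at h1
        exact Nat.not_even_iff_odd.2 hodd (even_iff_two_dvd.2 h1)
      · rfl
    have huN : (⟨u, huM⟩ : M) ∉ N := fun h => by
      have hd := orderOf_dvd_natCard (G := N) ⟨⟨u, huM⟩, h⟩
      rw [← Subgroup.orderOf_coe, ← Subgroup.orderOf_coe, hu] at hd
      exact Nat.not_even_iff_odd.2 hodd (even_iff_two_dvd.2 hd)
    by_cases hgN : (⟨g, hg⟩ : M) ∈ N
    · exact mem_sup_left ⟨_, hgN, rfl⟩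
    · have hgu : (⟨g, hg⟩ : M) * ⟨u, huM⟩ ∈ N :=
        (mul_mem_iff_of_index_two hidx).2 (iff_of_false hgN huN)
      have := mul_mem (mem_sup_left (T := zpowers u) (mem_map_of_mem M.subtype hgu))
        (mem_sup_right (S := N.map M.subtype) (inv_mem (mem_zpowers u)))
      simpa using this

/-- An invariant Sylow subgroup above an invariant `r`-subgroup of an odd group. -/
theorem exists_invariant_sylow_in {r : ℕ} [Fact r.Prime] {u : G} (hu : orderOf u = 2) {H U : Subgroup G}
    (hH : Odd (Nat.card H)) (huH : u ∈ normalizer (H : Set G)) (hUH : U ≤ H) (hU : IsPGroup r U)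
    (huU : u ∈ normalizer (U : Set G)) : ∃ R : Subgroup G, U ≤ R ∧ R ≤ H ∧ IsPGroup r R ∧
      u ∈ normalizer (R : Set G) ∧ Nat.card R = r ^ (Nat.card H).factorization r := by
  obtain ⟨P, hUP, hn⟩ := Coprime.exists_invariant_sylow_ge (A := zpowers u) (le_normalizer_zpowers huH)
    (by rw [Nat.card_zpowers, hu]; exact Nat.coprime_two_left.2 hH) (Or.inl inferInstance) r hUH hU
    (le_normalizer_zpowers huU)
  refine ⟨_, hUP, map_subtype_le _, P.isPGroup'.map _, hn (mem_zpowers u), ?_⟩
  rw [Subgroup.card_map_of_injective H.subtype_injective, P.card_eq_multiplicity]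

/-- The overgroup: `R` is a Sylow subgroup of `G` and lies in the derived group of `H ⟨u⟩`. -/
theorem exists_overgroup {r : ℕ} [Fact r.Prime] (hr : r ≠ 2) [IsSimpleGroup G]
    (hna : ∃ a b : G, a * b ≠ b * a)
    (hexp : ∀ Q : Subgroup G, IsPGroup 2 Q → ∀ a ∈ Q, a * a = 1)
    {u : G} (hu : orderOf u = 2) {P0 : Subgroup G} (hP0 : IsPGroup r P0) (hne : P0 ≠ ⊥)
    (huP0 : u ∈ normalizer (P0 : Set G))
    (Good : Subgroup G → Prop) {H0 : Subgroup G} (hH0 : Odd (Nat.card H0)) (hP0H : P0 ≤ H0)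
    (huH0 : u ∈ normalizer (H0 : Set G)) (hgood : Good H0)
    (hfour : ∀ R : Subgroup G, IsPGroup r R → P0 ≤ R → u ∈ normalizer (R : Set G) → ∀ V : Subgroup G,
      IsFour V → u ∈ V → ¬ V ≤ normalizer (Thompson.zjay r R : Set G))
    (hstable : ∀ H R : Subgroup G, Odd (Nat.card H) → u ∈ normalizer (H : Set G) → Good H →
      IsPGroup r R → P0 ≤ R → R ≤ H → u ∈ normalizer (R : Set G) →
      Nat.card R = r ^ (Nat.card H).factorization r → ∀ H2 : Subgroup G, Odd (Nat.card H2) →
      u ∈ normalizer (H2 : Set G) → P0 ≤ H2 → H ⊓ normalizer (Thompson.zjay r R : Set G) ≤ H2 → Good H2) :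
    ∃ H : Subgroup G, Odd (Nat.card H) ∧ u ∈ normalizer (H : Set G) ∧ Good H ∧
      ∃ R : Sylow r G, P0 ≤ (R : Subgroup G) ∧ (R : Subgroup G) ≤ H ∧
        u ∈ normalizer ((R : Subgroup G) : Set G) ∧
        (R : Subgroup G) ≤ ⁅H ⊔ zpowers u, H ⊔ zpowers u⁆ := by
  obtain ⟨H, ⟨hH, hPH, huH, hg⟩, hmax⟩ := Set.Finite.exists_maximalFor
    (fun H : Subgroup G => (Nat.card H).factorization r)
    {H : Subgroup G | Odd (Nat.card H) ∧ P0 ≤ H ∧ u ∈ normalizer (H : Set G) ∧ Good H}
    (Set.toFinite _) ⟨H0, hH0, hP0H, huH0, hgood⟩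
  obtain ⟨R, hPR, hRH, hR, huR, hcard⟩ := exists_invariant_sylow_in hu hH huH hPH hP0 huP0
  set X := Thompson.zjay r R with hX
  set M := normalizer (X : Set G) with hM
  have huM : u ∈ M :=
    Thompson.normalizer_jay_le_normalizer_zjay r R (Thompson.normalizer_le_normalizer_jay r R huR)
  have h4 : ¬ 4 ∣ Nat.card M := fun h => by
    obtain ⟨V, hVM, huV, hV⟩ := exists_four hexp hu huM h
    exact hfour R hR hPR huR V hV huV hVM
  obtain ⟨H2, hH2M, hH2, huH2, hmem, hsup⟩ := exists_odd_part hu huM h4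
  have hrodd : ∀ {K : Subgroup G}, IsPGroup r K → ∀ g ∈ K, Odd (orderOf g) := fun {K} hK g hg => by
    obtain ⟨k, hk⟩ := hK ⟨g, hg⟩
    refine Odd.of_dvd_nat (((Fact.out : r.Prime).odd_of_ne_two hr).pow (n := k))
      (orderOf_dvd_of_pow_eq_one ?_)
    exact congrArg Subtype.val hk
  have hinf : H ⊓ M ≤ H2 := fun g hg => hmem g hg.2 (hH.of_dvd_nat (by
    rw [← Nat.card_zpowers]; exact card_dvd_of_le (zpowers_le.2 hg.1)))
  have hRH2 : R ≤ H2 := fun g hg =>
    hinf ⟨hRH hg, Thompson.le_normalizer_zjay r R hg⟩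
  have hgood2 : Good H2 :=
    hstable H R hH huH hg hR hPR hRH huR hcard H2 hH2 huH2 (hPR.trans hRH2) hinf
  have hle : (Nat.card H2).factorization r ≤ (Nat.card H).factorization r := by
    by_contra hlt
    exact hlt (hmax ⟨hH2, hPR.trans hRH2, huH2, hgood2⟩ (le_of_not_ge hlt))
  -- `R` is a Sylow subgroup of `G`
  obtain ⟨S, hS⟩ := hR.exists_le_sylow
  have hSeq : (S : Subgroup G) = R := by
    by_contra hne'
    haveI := S.isPGroup'.isNilpotent
    have hlt : R.subgroupOf S < ⊤ := lt_top_iff_ne_top.2 fun e =>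
      hne' (le_antisymm (subgroupOf_eq_top.1 e) hS)
    obtain ⟨g, hgn, hgR⟩ := SetLike.exists_of_lt (normalizerCondition_of_isNilpotent _ hlt)
    have hgN : (g : G) ∈ normalizer (R : Set G) := by
      refine mem_normalizer_iff.2 fun x => ⟨fun hx => ?_, fun hx => ?_⟩
      · exact (mem_normalizer_iff.1 hgn ⟨x, hS hx⟩).1 hx
      · have hxS : x ∈ (S : Subgroup G) := by
          have := mul_mem (mul_mem (inv_mem g.2) (hS hx)) g.2
          simpa [mul_assoc] using this
        exact (mem_normalizer_iff.1 hgn ⟨x, hxS⟩).2 hx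
    set K := (R ⊔ zpowers (g : G)) with hK
    have hKp : IsPGroup r K := S.isPGroup'.to_le (sup_le hS (zpowers_le.2 g.2))
    have hKH2 : K ≤ H2 := sup_le hRH2 (zpowers_le.2 (hmem _
      (Thompson.normalizer_jay_le_normalizer_zjay r R (Thompson.normalizer_le_normalizer_jay r R hgN))
      (hrodd S.isPGroup' _ g.2)))
    have hKlt : Nat.card R < Nat.card K := by
      refine lt_of_le_of_ne (card_le_of_le le_sup_left) fun e => hgR ?_
      have := eq_of_le_of_card_ge (le_sup_left : R ≤ K) e.ge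
      show (g : G) ∈ R
      rw [this]
      exact mem_sup_right (mem_zpowers _)
    obtain ⟨k, hk⟩ := IsPGroup.iff_card.1 hKp
    rw [hk, hcard] at hKlt
    have hk' : k ≤ (Nat.card H2).factorization r :=
      ((Fact.out : r.Prime).pow_dvd_iff_le_factorization Nat.card_pos.ne').1
        (hk ▸ card_dvd_of_le hKH2)
    have := (Nat.pow_lt_pow_iff_right (Fact.out : r.Prime).one_lt).1 hKlt
    omega
  refine ⟨H2, hH2, huH2, hgood2, S, hSeq ▸ hPR, hSeq ▸ hRH2, hSeq ▸ huR, ?_⟩
  haveI : Fact (Nat.Prime 2) := ⟨Nat.prime_two⟩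
  have hfree : ¬ Thompson.HasSection (Cfsg.qd r) G := fun h => by
    obtain ⟨T⟩ : Nonempty (Sylow 2 G) := inferInstance
    refine Thompson.not_hasSection_SL2_of_abelian hr T ⟨⟨fun a b => Subtype.ext ?_⟩⟩
      (Thompson.hasSection_sl2_of_qd h)
    have hs := hexp _ T.isPGroup'
    have hab := hs _ (mul_mem a.2 b.2)
    calc (a : G) * b = (a : G) * b * (((b : G) * a) * (b * a)) := by rw [hs _ (mul_mem b.2 a.2), mul_one]
      _ = a * ((b : G) * b) * a * (b * a) := by group
      _ = b * a := by rw [hs _ b.2, mul_one, hs _ a.2, one_mul]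
  have hcon : Fusion.ControlsElementFusion M (S : Subgroup G) := by
    intro x hx g hgx
    obtain ⟨n, hn, hnx⟩ := Thompson.strongFusion_zjay hr (e := r) (Or.inr rfl) G hfree S {x} g
      (Set.singleton_subset_iff.2 hx) (by rintro _ ⟨a, rfl, rfl⟩; exact hgx)
    refine ⟨n, ?_, hnx x rfl⟩
    rw [hM, hX, ← hSeq]
    exact hn
  have hperf : commutator G = ⊤ := by
    rcases (inferInstance : (commutator G).Normal).eq_bot_or_eq_top with h | h
    · obtain ⟨a, b, hab⟩ := hna
      have : a * b * a⁻¹ * b⁻¹ ∈ commutator G := commutator_mem_commutator (mem_top a) (mem_top b)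
      rw [h, mem_bot, mul_inv_eq_one, mul_inv_eq_iff_eq_mul] at this
      exact absurd this hab
    · exact h
  have hSM : (S : Subgroup G) ≤ M := by rw [hSeq]; exact Thompson.le_normalizer_zjay r R
  have h1 := Fusion.commutator_inf_eq_of_controls S hSM hcon
  rw [hperf, top_inf_eq] at h1
  rw [h1]
  refine inf_le_left.trans (commutator_mono ?_ ?_) <;> exact hsup

end Cfsg.Agent.H27.E0
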