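import Mathlib

/-!
# Odd groups of automorphisms of a plane, of order prime to the characteristic, are commutative
-/

set_option autoImplicit false
set_option linter.unusedSectionVars false
set_option linter.style.haveILetI false

namespace Cfsg.Agent.H27.E0

open Subgroup Module
open scoped commutatorElement

variable {F W : Type*} [Field F] [AddCommGroup W] [Module F W]

/-- An automorphism is scalar if it multiplies by a constant. -/
def Scalar (f : W ≃ₗ[F] W) : Prop := ∃ c : F, ∀ w : W, f w = c • w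

theorem Scalar.commute {f : W ≃ₗ[F] W} (h : Scalar f) (g : W ≃ₗ[F] W) : f * g = g * f := by
  obtain ⟨c, hc⟩ := h
  refine LinearEquiv.ext fun w => ?_
  show f (g w) = g (f w)
  rw [hc, hc, map_smul]

/-- A non-scalar automorphism of a plane has a cyclic vector. -/
theorem exists_cyclic (h2 : finrank F W = 2) {f : W ≃ₗ[F] W} (h : ¬ Scalar f) :
    ∃ w : W, LinearIndependent F ![w, f w] ∧ Submodule.span F ({w, f w} : Set W) = ⊤ := by
  haveI : FiniteDimensional F W := Module.finite_of_finrank_eq_succ h2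
  obtain ⟨w, hw⟩ : ∃ w : W, ∀ c : F, f w ≠ c • w := by
    by_contra! hall
    exact h (exists_scalar_of_forall f hall)
  have hw0 : w ≠ 0 := fun e => hw 0 (by rw [e, map_zero, smul_zero])
  have hli : LinearIndependent F ![w, f w] :=
    (LinearIndependent.pair_iff' hw0).2 fun a e => hw a e.symm
  refine ⟨w, hli, ?_⟩
  have hs := hli.span_eq_top_of_card_eq_finrank (by rw [Fintype.card_fin, h2])
  rwa [Matrix.range_cons_cons_empty] at hs
where
  exists_scalar_of_forall (f : W ≃ₗ[F] W) (hall : ∀ w : W, ∃ c : F, f w = c • w) : Scalar f := by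
    by_cases hW : ∀ w : W, w = 0
    · exact ⟨1, fun w => by rw [hW w, map_zero, smul_zero]⟩
    push Not at hW
    obtain ⟨v, hv⟩ := hW
    obtain ⟨c, hc⟩ := hall v
    refine ⟨c, fun w => ?_⟩
    by_cases hd : ∃ a : F, a • v = w
    · obtain ⟨a, rfl⟩ := hd
      rw [map_smul, hc, smul_comm]
    push Not at hd
    obtain ⟨b, hb⟩ := hall w
    obtain ⟨d, hd'⟩ := hall (v + w)
    have hli : LinearIndependent F ![v, w] := (LinearIndependent.pair_iff' hv).2 hd
    have e : (c - d) • v + (b - d) • w = 0 := by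
      rw [sub_smul, sub_smul, ← hc, ← hb]
      rw [smul_add, map_add] at hd'
      calc f v - d • v + (f w - d • w) = (f v + f w) - (d • v + d • w) := by abel
        _ = 0 := by rw [hd', sub_self]
    obtain ⟨e1, e2⟩ := (LinearIndependent.pair_iff.1 hli) _ _ e
    rw [hb, sub_eq_zero.1 e2, ← sub_eq_zero.1 e1]

/-- A plane automorphism `f` with `f² = τ f + δ` and `f` not scalar, order prime to the
characteristic, has non-zero discriminant. -/
theorem disc_ne_zero (h2F : (2 : F) ≠ 0) {f : W ≃ₗ[F] W} (h : ¬ Scalar f) {k : ℕ}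
    (hk : (k : F) ≠ 0) (hfk : f ^ k = 1) {τ δ : F} (hrel : ∀ v, f (f v) = τ • f v + δ • v) :
    τ * τ + 4 * δ ≠ 0 := by
  intro hd
  set l := τ / 2 with hl
  have hd2 : δ = -(l * l) := by
    have hτ' : τ = 2 * l := by rw [hl]; field_simp
    have h4 : (4 : F) ≠ 0 := by
      rw [show (4 : F) = 2 * 2 by norm_num]; exact mul_ne_zero h2F h2F
    have h5 : 4 * (l * l + δ) = 0 := by linear_combination hd - (τ + 2 * l) * hτ'
    linear_combination (mul_eq_zero.1 h5).resolve_left h4
  have hτ : τ = 2 * l := by rw [hl]; field_simp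
  -- `N = f - l` squares to zero
  have hN : ∀ v, f (f v - l • v) = l • (f v - l • v) := by
    intro v
    rw [map_sub, map_smul, hrel, hτ, hd2]
    module
  have hpow : ∀ (m : ℕ) (v : W), (f ^ (m + 1)) v =
      (l ^ (m + 1)) • v + (((m + 1 : ℕ) : F) * l ^ m) • (f v - l • v) := by
    intro m
    induction m with
    | zero => intro v; simp
    | succ m ih =>
      intro v
      rw [pow_succ' f (m + 1)]
      show f ((f ^ (m + 1)) v) = _
      rw [ih v, map_add, map_smul, map_smul, hN v]
      push_cast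
      simp only [pow_succ]
      module
  obtain ⟨j, rfl⟩ : ∃ j, k = j + 1 := ⟨k - 1, by
    rcases Nat.eq_zero_or_pos k with rfl | hp
    · exact absurd Nat.cast_zero hk
    · omega⟩
  have hl0 : l ≠ 0 := by
    intro e
    apply h
    refine absurd ?_ h
    refine ⟨0, fun v => ?_⟩
    have h1 := hrel v
    rw [hτ, hd2, e] at h1
    simp only [mul_zero, neg_zero, zero_smul, add_zero] at h1
    have h2 : f v = 0 := f.map_eq_zero_iff.1 h1
    rw [h2, zero_smul]
  apply h
  refine ⟨l, fun v => ?_⟩
  have h1 := hpow j v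
  rw [hfk] at h1
  have h2' := hpow j (f v - l • v)
  rw [hfk] at h2'
  have h3 : f (f v - l • v) - l • (f v - l • v) = 0 := by rw [hN, sub_self]
  rw [h3, smul_zero, add_zero] at h2'
  change f v - l • v = l ^ (j + 1) • (f v - l • v) at h2'
  have h4 : (1 - l ^ (j + 1)) • (f v - l • v) = 0 := by
    rw [sub_smul, one_smul, ← h2', sub_self]
  rcases smul_eq_zero.1 h4 with h5 | h5
  · change v = _ at h1
    rw [← (sub_eq_zero.1 h5), one_smul] at h1
    have h6 : (((j + 1 : ℕ) : F) * l ^ j) • (f v - l • v) = 0 := by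
      have := h1.symm
      rwa [add_eq_left] at this
    exact sub_eq_zero.1 ((smul_eq_zero.1 h6).resolve_left (mul_ne_zero hk (pow_ne_zero _ hl0)))
  · exact sub_eq_zero.1 h5

variable (h2 : finrank F W = 2)
include h2

/-- What commutes with a non-scalar automorphism of a plane commutes with everything that does. -/
theorem commute_of_commute {f : W ≃ₗ[F] W} (h : ¬ Scalar f) {a b : W ≃ₗ[F] W}
    (ha : a * f = f * a) (hb : b * f = f * b) : a * b = b * a := by
  obtain ⟨w, -, hspan⟩ := exists_cyclic h2 h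
  have ha' : ∀ v, a (f v) = f (a v) := fun v => LinearEquiv.congr_fun ha v
  have hb' : ∀ v, b (f v) = f (b v) := fun v => LinearEquiv.congr_fun hb v
  obtain ⟨α, β, hA⟩ := Submodule.mem_span_pair.1
    (hspan.symm ▸ Submodule.mem_top : a w ∈ Submodule.span F ({w, f w} : Set W))
  obtain ⟨γ, δ, hB⟩ := Submodule.mem_span_pair.1
    (hspan.symm ▸ Submodule.mem_top : b w ∈ Submodule.span F ({w, f w} : Set W))
  have key : ∀ v, a v = α • v + β • f v := by
    intro v
    obtain ⟨x, y, rfl⟩ := Submodule.mem_span_pair.1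
      (hspan.symm ▸ Submodule.mem_top : v ∈ Submodule.span F ({w, f w} : Set W))
    simp only [map_add, map_smul, ha', ← hA]
    module
  refine LinearEquiv.ext fun v => ?_
  show a (b v) = b (a v)
  rw [key, key, map_add, map_smul, map_smul, hb']

/-- A scalar commutator of odd order is trivial. -/
theorem commutator_eq_one (h2F : (2 : F) ≠ 0) {a b : W ≃ₗ[F] W} (hs : Scalar ⁅a, b⁆)
    (ho : Odd (orderOf ⁅a, b⁆)) : ⁅a, b⁆ = 1 := by
  have _ := h2F
  obtain ⟨c, hc⟩ := hs
  have hdet : LinearEquiv.det ⁅a, b⁆ = 1 := by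
    rw [map_commutatorElement]; exact commutatorElement_eq_one_iff_mul_comm.2 (mul_comm _ _)
  have hc2 : c * c = 1 := by
    have h1 := congrArg Units.val hdet
    rw [LinearEquiv.coe_det, show ((⁅a, b⁆ : W ≃ₗ[F] W) : W →ₗ[F] W) = c • LinearMap.id from
      LinearMap.ext fun w => hc w, LinearMap.det_smul, LinearMap.det_id, h2, mul_one] at h1
    simpa [pow_two] using h1
  have hsq : ⁅a, b⁆ * ⁅a, b⁆ = 1 := LinearEquiv.ext fun w => by
    show ⁅a, b⁆ (⁅a, b⁆ w) = w
    rw [hc, hc, smul_smul, hc2, one_smul]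
  have hd : orderOf ⁅a, b⁆ ∣ 2 := orderOf_dvd_of_pow_eq_one (by rw [pow_two, hsq])
  rcases (Nat.dvd_prime Nat.prime_two).1 hd with h | h
  · exact orderOf_eq_one_iff.1 h
  · rw [h] at ho; exact absurd ho (by decide)

/-- An odd solvable group of plane automorphisms of order prime to the characteristic is commutative. -/
theorem commute_of_odd (h2F : (2 : F) ≠ 0) (Γ : Subgroup (W ≃ₗ[F] W)) [Finite Γ]
    (hodd : Odd (Nat.card Γ)) (hcop : (Nat.card Γ : F) ≠ 0) (hsol : Group.IsSolvable Γ)
    {a b : W ≃ₗ[F] W} (ha : a ∈ Γ) (hb : b ∈ Γ) : a * b = b * a := by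
  by_contra hab
  have hoddel : ∀ {c : W ≃ₗ[F] W}, c ∈ Γ → Odd (orderOf c) := fun {c} hc =>
    hodd.of_dvd_nat (orderOf_dvd_natCard Γ hc)
  -- the first term of the derived series consisting of scalars
  obtain ⟨m, hm⟩ := hsol.solvable
  have hex : ∃ m, ∀ x ∈ derivedSeries ↥Γ m, Scalar (x : W ≃ₗ[F] W) :=
    ⟨m, fun x hx => by rw [hm, mem_bot] at hx; exact ⟨1, fun w => by rw [hx, one_smul]; rfl⟩⟩
  classical
  obtain ⟨k, hk⟩ : ∃ k, k + 1 = Nat.find hex := by
    refine ⟨Nat.find hex - 1, ?_⟩
    have : Nat.find hex ≠ 0 := fun e => by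
      have h0 := Nat.find_spec hex
      rw [e] at h0
      exact hab ((h0 ⟨a, ha⟩ (by simp)).commute b)
    omega
  set D := derivedSeries ↥Γ k
  obtain ⟨n, hn, hns⟩ : ∃ n ∈ D, ¬ Scalar (n : W ≃ₗ[F] W) := by
    have := Nat.find_min hex (show k < Nat.find hex by omega)
    push Not at this
    exact this
  have hDab : ∀ x ∈ D, ∀ y ∈ D, (x : W ≃ₗ[F] W) * y = y * x := by
    intro x hx y hy
    have hmem : ⁅x, y⁆ ∈ derivedSeries ↥Γ (Nat.find hex) := by
      rw [← hk, derivedSeries_succ]; exact commutator_mem_commutator hx hy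
    have hs := Nat.find_spec hex _ hmem
    have he : ((⁅x, y⁆ : ↥Γ) : W ≃ₗ[F] W) = ⁅(x : W ≃ₗ[F] W), (y : W ≃ₗ[F] W)⁆ :=
      map_commutatorElement Γ.subtype x y
    refine commutatorElement_eq_one_iff_mul_comm.1 (commutator_eq_one h2 h2F (he ▸ hs) ?_)
    exact he ▸ hoddel (⁅x, y⁆ : ↥Γ).2
  obtain ⟨w, hli, hspan⟩ := exists_cyclic h2 hns
  set f := (n : W ≃ₗ[F] W) with hf
  obtain ⟨δ, τ, hrel0⟩ := Submodule.mem_span_pair.1
    (hspan.symm ▸ Submodule.mem_top : f (f w) ∈ Submodule.span F ({w, f w} : Set W))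
  have hext : ∀ {p q : W →ₗ[F] W}, p w = q w → p (f w) = q (f w) → ∀ v, p v = q v := by
    intro p q e1 e2 v
    obtain ⟨x, y, rfl⟩ := Submodule.mem_span_pair.1
      (hspan.symm ▸ Submodule.mem_top : v ∈ Submodule.span F ({w, f w} : Set W))
    simp only [map_add, map_smul, e1, e2]
  have hrel : ∀ v, f (f v) = τ • f v + δ • v := by
    refine fun v => hext (p := (f : W →ₗ[F] W).comp (f : W →ₗ[F] W))
      (q := τ • (f : W →ₗ[F] W) + δ • (LinearMap.id : W →ₗ[F] W)) ?_ ?_ v
    · simp only [LinearMap.comp_apply, LinearMap.add_apply, LinearMap.smul_apply, LinearMap.id_apply,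
        LinearEquiv.coe_coe]
      rw [← hrel0]; abel
    · simp only [LinearMap.comp_apply, LinearMap.add_apply, LinearMap.smul_apply, LinearMap.id_apply,
        LinearEquiv.coe_coe]
      rw [← hrel0, map_add, map_smul, map_smul, ← hrel0]
      module
  have hdisc := disc_ne_zero h2F hns hcop (by
    rw [hf, ← Subgroup.coe_pow, pow_card_eq_one', Subgroup.coe_one]) hrel
  -- every element of `Γ` centralises `n`
  have hcent : ∀ g ∈ Γ, g * f = f * g := by
    intro g hg
    set g' : ↥Γ := ⟨g, hg⟩
    have hconj : ∀ h : ↥Γ, ((h * n * h⁻¹ : ↥Γ) : W ≃ₗ[F] W) = f ∨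
        ∀ v, (h : W ≃ₗ[F] W) (f v) = τ • (h : W ≃ₗ[F] W) v - f ((h : W ≃ₗ[F] W) v) := by
      intro h
      have hmD : h * n * h⁻¹ ∈ D := (derivedSeries_normal (G := ↥Γ) k).conj_mem n hn h
      set m := ((h * n * h⁻¹ : ↥Γ) : W ≃ₗ[F] W) with hmdef
      have hcm : ∀ v, m (f v) = f (m v) := fun v =>
        LinearEquiv.congr_fun (hDab _ hmD n hn) v
      have hsh : ∀ v, (h : W ≃ₗ[F] W) (f v) = m ((h : W ≃ₗ[F] W) v) := by
        intro v
        have e : (h : W ≃ₗ[F] W) * f = m * h := by
          rw [hmdef, hf, ← Subgroup.coe_mul, ← Subgroup.coe_mul, inv_mul_cancel_right]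
        exact LinearEquiv.congr_fun e v
      have hmrel : ∀ v, m (m v) = τ • m v + δ • v := by
        intro v
        obtain ⟨v', rfl⟩ := (h : W ≃ₗ[F] W).surjective v
        rw [← hsh, ← hsh, hrel, map_add, map_smul, map_smul, hsh]
      obtain ⟨α, β, hA⟩ := Submodule.mem_span_pair.1
        (hspan.symm ▸ Submodule.mem_top : m w ∈ Submodule.span F ({w, f w} : Set W))
      have hmv : ∀ v, m v = α • v + β • f v := by
        refine fun v => hext (p := (m : W →ₗ[F] W)) (q := α • LinearMap.id + β • (f : W →ₗ[F] W))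
          ?_ ?_ v
        · simp [hA]
        · simp only [LinearMap.add_apply, LinearMap.smul_apply, LinearMap.id_apply, LinearEquiv.coe_coe]
          rw [hcm, ← hA, map_add, map_smul, map_smul]
      have h1 := hmrel w
      rw [hmv (m w), hmv w, map_add, map_smul, map_smul, hrel w] at h1
      have h1' : (α * α + β * β * δ - τ * α - δ) • w +
          (2 * α * β + β * β * τ - τ * β) • f w = 0 := by
        rw [← sub_eq_zero] at h1
        refine Eq.trans ?_ h1
        module
      obtain ⟨e1, e2⟩ := (LinearIndependent.pair_iff.1 hli) _ _ h1'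
      have hβ : β ≠ 0 := by
        intro e
        apply hns
        refine ⟨α, fun v => ?_⟩
        have h3 := hsh v
        rw [hmv, e, zero_smul, add_zero, ← map_smul] at h3
        exact (h : W ≃ₗ[F] W).injective h3
      have h4 : 2 * α = τ * (1 - β) := by
        have : β * (2 * α + β * τ - τ) = 0 := by linear_combination e2
        linear_combination (mul_eq_zero.1 this).resolve_left hβ
      have h5 : (β - 1) * (β + 1) * (τ * τ + 4 * δ) = 0 := by
        linear_combination 4 * e1 + (2 * τ - 2 * α - τ * (1 - β)) * h4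
      rcases mul_eq_zero.1 ((mul_eq_zero.1 h5).resolve_right hdisc) with e | e
      · left
        have hα : α = 0 := by
          have : 2 * α = 0 := by rw [h4, sub_eq_zero.1 e, sub_self, mul_zero]
          exact (mul_eq_zero.1 this).resolve_left h2F
        exact LinearEquiv.ext fun v => by rw [hmv, hα, sub_eq_zero.1 e, zero_smul, one_smul, zero_add]
      · right
        intro v
        have hb1 : β = -1 := eq_neg_of_add_eq_zero_left e
        have hα : α = τ := by
          have : 2 * α = 2 * τ := by rw [h4, hb1]; ring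
          exact mul_left_cancel₀ h2F this
        rw [hsh, hmv, hα, hb1, neg_smul, one_smul, sub_eq_add_neg]
    have hgv : ∀ (p : ℕ), (g ^ (2 * p)) * f = f * g ^ (2 * p) := by
      intro p
      rw [pow_mul]
      refine (Commute.pow_left ?_ p).eq
      show g ^ 2 * f = f * g ^ 2
      rw [pow_two]
      rcases hconj g' with e | e
      · have e' : g * f = f * g := by
          rw [← mul_inv_eq_iff_eq_mul]
          simpa using e
        exact ((show Commute g f from e').mul_left e').eq
      · refine LinearEquiv.ext fun v => ?_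
        show g (g (f v)) = f (g (g v))
        have e' : ∀ v, g (f v) = τ • g v - f (g v) := e
        rw [e', map_sub, map_smul, e']
        abel
    obtain ⟨p, hp⟩ := hoddel hg
    have h6 := hgv (p + 1)
    rwa [show 2 * (p + 1) = orderOf g + 1 by omega, pow_succ, pow_orderOf_eq_one, one_mul] at h6
  exact hab (commute_of_commute h2 hns (hcent a ha) (hcent b hb))

end Cfsg.Agent.H27.E0
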