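import Cfsg.Agent.H27.E0.CoreSmall
import Cfsg.Agent.H27.E0.Four
import Cfsg.Agent.H27.E0.Overgroup
import Cfsg.Agent.PGroups.Basic

/-!
# The small fixed field is impossible

A simple group with elementary abelian Sylow 2-subgroups has no involution `u` and `r`-element `x` in `C(u)`
such that `C(x)` has a Sylow `r`-subgroup `⟨a⟩ × ⟨x⟩`, `a` inverted by `u`, normalised non-trivially by some
`n` of order prime to `r` with exponent of square `≢ 1`, and such that `x` avoids the derived groups of the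
centralizers.
-/

set_option autoImplicit false
set_option linter.unusedSectionVars false
set_option linter.style.haveILetI false

namespace Cfsg.Agent.H27.E0

open Subgroup

universe w

variable {G : Type w} [Group G] [Finite G]

theorem eq_or_eq_of_mem_zpowers {u g : G} (hu : u * u = 1) (hg : g ∈ zpowers u) : g = 1 ∨ g = u := by
  obtain ⟨z, rfl⟩ := mem_zpowers_iff.1 hg
  have h2 : u ^ (2 : ℤ) = 1 := by rw [zpow_two, hu]
  rcases Int.even_or_odd z with ⟨k, rfl⟩ | ⟨k, rfl⟩
  · exact Or.inl (by rw [← two_mul, zpow_mul, h2, one_zpow])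
  · exact Or.inr (by rw [zpow_add, zpow_mul, h2, one_zpow, one_mul, zpow_one])

/-- Conjugation by powers of an element acting on `⟨a⟩` as a power map. -/
theorem conj_iterate_eq {n a : G} {e : ℕ} (h : n * a * n⁻¹ = a ^ e) (k : ℕ) :
    n ^ k * a * (n ^ k)⁻¹ = a ^ e ^ k := by
  induction k with
  | zero => simp
  | succ k ih =>
    rw [pow_succ', show n * n ^ k * a * (n * n ^ k)⁻¹ = n * (n ^ k * a * (n ^ k)⁻¹) * n⁻¹ by group, ih,
      ← conj_pow, h, ← pow_mul, ← pow_succ']

theorem centralizer_singleton_zpowers (g : G) :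
    centralizer (zpowers g : Set G) = centralizer ({g} : Set G) := by
  rw [zpowers_eq_closure, centralizer_closure]

/-- The centralizer of a `p`-element modulo a normal `p'`-subgroup. -/
theorem map_centralizer_singleton {p : ℕ} [Fact p.Prime] (N : Subgroup G) [N.Normal]
    (hN : (Nat.card N).Coprime p) {g : G} (hg : IsPGroup p (zpowers g)) :
    (centralizer ({g} : Set G)).map (QuotientGroup.mk' N) =
      centralizer ({QuotientGroup.mk' N g} : Set (G ⧸ N)) := by
  rw [← centralizer_singleton_zpowers, Cores.map_centralizer_of_coprime N hN hg, MonoidHom.map_zpowers,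
    centralizer_singleton_zpowers]

/-- An `r`-element of `C` congruent to an element of `C'` modulo a normal `r'`-subgroup lies in `C'`. -/
theorem mem_commutator_of_congr {r : ℕ} [Fact r.Prime] (N : Subgroup G) [N.Normal]
    (hN : (Nat.card N).Coprime r) {C : Subgroup G} {g c : G} (hg : g ∈ C)
    (hgr : IsPGroup r (zpowers g)) (hc : c ∈ ⁅C, C⁆)
    (h : QuotientGroup.mk' N g = QuotientGroup.mk' N c) : g ∈ ⁅C, C⁆ := by
  have hcC : c ∈ C := commutator_le_self C hc
  have ho : c⁻¹ * g ∈ N := (QuotientGroup.eq_one_iff _).1 (by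
    rw [← QuotientGroup.mk'_apply, map_mul, map_inv, h, inv_mul_cancel])
  rw [← map_subtype_commutator] at hc ⊢
  obtain ⟨⟨c', hc'C⟩, hc', he⟩ := hc
  refine ⟨⟨g, hg⟩, ?_, rfl⟩
  set φ := QuotientGroup.mk' (_root_.commutator C)
  have hφc : φ ⟨c', hc'C⟩ = 1 := (QuotientGroup.eq_one_iff _).2 hc'
  have e1 : φ ⟨g, hg⟩ = φ ⟨c⁻¹ * g, mul_mem (inv_mem hcC) hg⟩ := by
    rw [show (⟨g, hg⟩ : C) = ⟨c', hc'C⟩ * ⟨c⁻¹ * g, mul_mem (inv_mem hcC) hg⟩ from Subtype.ext (by
      show g = c' * (c⁻¹ * g)
      rw [show c' = c from he, mul_inv_cancel_left]), map_mul, hφc, one_mul]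
  obtain ⟨k, hk⟩ := hgr ⟨g, mem_zpowers g⟩
  have h1 : orderOf (φ ⟨g, hg⟩) ∣ r ^ k := (orderOf_map_dvd φ _).trans (orderOf_dvd_of_pow_eq_one
    (Subtype.ext (congrArg Subtype.val hk : g ^ r ^ k = 1)))
  have h2 : orderOf (φ ⟨g, hg⟩) ∣ Nat.card N := by
    rw [e1]
    refine (orderOf_map_dvd φ _).trans ?_
    rw [← Subgroup.orderOf_coe]
    exact orderOf_dvd_natCard N ho
  exact (QuotientGroup.eq_one_iff _).1 (orderOf_eq_one_iff.1
    (Nat.eq_one_of_dvd_coprimes (hN.symm.pow_left k) h1 h2))

/-- A central element of order `r` lies in `Z(J(R))`. -/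
theorem mem_zjay_of_central {r : ℕ} [Fact r.Prime] {R : Subgroup G} {z : G} (hz : z ∈ R)
    (hzc : z ∈ centralizer (R : Set G)) (hzr : z ^ r = 1) : z ∈ Thompson.zjay r R := by
  obtain ⟨A, hA⟩ := Thompson.maxIn_nonempty r R
  have hzA : z ∈ A := Thompson.mem_of_mem_centralizer hA hz (centralizer_le hA.1 hzc) hzr
  exact ⟨Thompson.le_jay hA hzA, centralizer_le Thompson.jay_le hzc⟩

theorem not_hasSection_qd {r : ℕ} [Fact r.Prime] (hr : r ≠ 2)
    (hexp : ∀ Q : Subgroup G, IsPGroup 2 Q → ∀ a ∈ Q, a * a = 1) :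
    ¬ Thompson.HasSection (Cfsg.qd r) G := fun h => by
  haveI : Fact (Nat.Prime 2) := ⟨Nat.prime_two⟩
  obtain ⟨T⟩ : Nonempty (Sylow 2 G) := inferInstance
  refine Thompson.not_hasSection_SL2_of_abelian hr T ⟨⟨fun a b => Subtype.ext ?_⟩⟩
    (Thompson.hasSection_sl2_of_qd h)
  have hs := hexp _ T.isPGroup'
  calc (a : G) * b = (a : G) * b * (((b : G) * a) * (b * a)) := by rw [hs _ (mul_mem b.2 a.2), mul_one]
    _ = a * ((b : G) * b) * a * (b * a) := by group
    _ = b * a := by rw [hs _ b.2, mul_one, hs _ a.2, one_mul]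

set_option maxHeartbeats 800000 in
/-- The small case is impossible. -/
theorem small_false [IsSimpleGroup G] (hna : ∃ a b : G, a * b ≠ b * a)
    (hexp : ∀ Q : Subgroup G, IsPGroup 2 Q → ∀ a ∈ Q, a * a = 1) {r : ℕ} [Fact r.Prime] (hr : r ≠ 2)
    {u : G} (hu : orderOf u = 2) {x : G} (hxp : IsPGroup r (zpowers x)) (hx1 : x ≠ 1)
    (hxu : Commute x u)
    (hK1 : ∃ (a n : G) (e : ℕ), a ^ r = 1 ∧ a ≠ 1 ∧ Commute a x ∧ u * a * u⁻¹ = a⁻¹ ∧ Commute n u ∧
      Commute n x ∧ Odd (orderOf n) ∧ ¬ r ∣ orderOf n ∧ n * a * n⁻¹ = a ^ e ∧ ¬ e * e ≡ 1 [MOD r])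
    (hK2 : (Nat.card (centralizer ({x} : Set G))).factorization r ≤
      (Nat.card (zpowers x)).factorization r + 1)
    (hF1 : ∀ K : Subgroup G, IsPGroup r K → K ≤ centralizer ({u} : Set G) → x ∈ K → K ≤ zpowers x)
    (hF2n : ∀ y ∈ zpowers x, y ≠ 1 → ∀ g ∈ normalizer (zpowers y : Set G),
      g ∈ centralizer ({y} : Set G))
    (hF2 : ∀ y ∈ zpowers x, y ≠ 1 →
      zpowers x ⊓ ⁅centralizer ({y} : Set G), centralizer ({y} : Set G)⁆ = ⊥)
    (hF3 : zpowers x ⊓ ⁅centralizer ({u} : Set G), centralizer ({u} : Set G)⁆ = ⊥)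
    (hF4 : ∀ g : G, IsPGroup r (zpowers g) → g ≠ 1 → ∀ v : G, orderOf v = 2 → Commute v g →
      ∀ w : G, w * g * w⁻¹ ≠ g⁻¹) : False := by
  have hrp : r.Prime := Fact.out
  obtain ⟨a, n, e, ha, ha1, hax, hua, hnu, hnx, hno, hnr, hna', he⟩ := hK1
  have hu2 : u * u = 1 := by
    have := pow_orderOf_eq_one u
    rwa [hu, pow_two] at this
  have huinv : u⁻¹ = u := inv_eq_of_mul_eq_one_right hu2
  have hrodd : ∀ {K : Subgroup G}, IsPGroup r K → ∀ g ∈ K, Odd (orderOf g) := fun {K} hK g hg => by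
    obtain ⟨k, hk⟩ := hK ⟨g, hg⟩
    refine Odd.of_dvd_nat ((hrp.odd_of_ne_two hr).pow (n := k)) (orderOf_dvd_of_pow_eq_one ?_)
    exact congrArg Subtype.val hk
  have hzp : ∀ {K : Subgroup G}, IsPGroup r K → ∀ g ∈ K, IsPGroup r (zpowers g) := fun hK g hg =>
    hK.to_le (zpowers_le.2 hg)
  -- the data
  set P0 := zpowers a ⊔ zpowers x with hP0def
  have hap : IsPGroup r (zpowers a) :=
    IsPGroup.of_card (n := 1) (by rw [Nat.card_zpowers, orderOf_eq_prime ha ha1, pow_one])
  have hanx : zpowers x ≤ normalizer (zpowers a : Set G) := by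
    refine le_trans ?_ (centralizer_le_normalizer _)
    rw [zpowers_le]
    exact mem_centralizer_iff.2 fun g hg => by
      obtain ⟨k, rfl⟩ := mem_zpowers_iff.1 hg
      exact hax.zpow_left k
  have hP0 : IsPGroup r P0 := hap.to_sup_of_normal_left' hxp hanx
  have haP : a ∈ P0 := mem_sup_left (mem_zpowers a)
  have hxP : x ∈ P0 := mem_sup_right (mem_zpowers x)
  have hP0eq : P0 = closure {a, x} := by
    rw [hP0def, zpowers_eq_closure, zpowers_eq_closure, ← Subgroup.closure_union, Set.singleton_union]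
  have hnorm : ∀ g : G, g * a * g⁻¹ ∈ P0 → g * x * g⁻¹ ∈ P0 → g ∈ normalizer (P0 : Set G) := by
    intro g h1 h2
    refine Coprime.mem_normalizer_of_map_conj (eq_of_le_of_card_ge ?_ (Coprime.card_map_conj _ _).ge)
    conv_lhs => rw [hP0eq]
    rw [MonoidHom.map_closure, closure_le]
    rintro _ ⟨t, (rfl | rfl), rfl⟩
    · exact h1
    · exact h2
  have huP0 : u ∈ normalizer (P0 : Set G) := hnorm u (by rw [hua]; exact inv_mem haP)
    (by rw [← hxu.eq, mul_inv_cancel_right]; exact hxP)
  have hnP0 : n ∈ normalizer (P0 : Set G) := hnorm n (by rw [hna']; exact pow_mem haP e)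
    (by rw [hnx.eq, mul_inv_cancel_right]; exact hxP)
  set H0 := P0 ⊔ zpowers n with hH0def
  have hH0 : Odd (Nat.card H0) := by
    have hoddP : Odd (Nat.card P0) := by
      obtain ⟨k, hk⟩ := IsPGroup.iff_card.1 hP0
      rw [hk]
      exact (hrp.odd_of_ne_two hr).pow
    have hd : P0 ⊓ zpowers n = ⊥ := Coprime.inf_eq_bot (by
      obtain ⟨k, hk⟩ := IsPGroup.iff_card.1 hP0
      rw [hk, Nat.card_zpowers]
      exact (hrp.coprime_iff_not_dvd.2 hnr).pow_left k)
    rw [hH0def, Coprime.card_sup (zpowers_le.2 hnP0) hd, Nat.card_zpowers]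
    exact hoddP.mul hno
  have hun : u ∈ normalizer (zpowers n : Set G) := centralizer_le_normalizer _
    (mem_centralizer_iff.2 fun g hg => by
      obtain ⟨k, rfl⟩ := mem_zpowers_iff.1 hg
      exact hnu.zpow_left k)
  have huH0 : u ∈ normalizer (H0 : Set G) := by
    refine mem_normalizer_iff.2 fun g => ?_
    have hmap : ∀ v : G, v ∈ normalizer (P0 : Set G) → v ∈ normalizer (zpowers n : Set G) →
        ∀ g ∈ H0, v * g * v⁻¹ ∈ H0 := by
      intro v h1 h2 g hg
      have h3 : H0.map (MulAut.conj v).toMonoidHom ≤ H0 := by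
        rw [hH0def, Subgroup.map_sup]
        exact sup_le (le_sup_of_le_left (Coprime.map_conj_eq h1).le)
          (le_sup_of_le_right (Coprime.map_conj_eq h2).le)
      exact h3 ⟨g, hg, rfl⟩
    refine ⟨hmap u huP0 hun g, fun h => ?_⟩
    have h' := hmap u huP0 hun _ h
    rwa [show u * (u * g * u⁻¹) * u⁻¹ = (u * u) * g * (u * u)⁻¹ by group, hu2, one_mul, inv_one,
      mul_one] at h'
  set Good : Subgroup G → Prop := fun H => ∃ m ∈ H, Commute m u ∧ Commute m x ∧ ¬ r ∣ orderOf m ∧
    m * a * m⁻¹ = a ^ e with hGood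
  have hfree := not_hasSection_qd hr hexp
  obtain ⟨H, hH, huH, ⟨n', hn'H, hn'u, hn'x, hn'r, hn'a⟩, S, hP0S, hSH, -, hSD⟩ :=
    exists_overgroup hr hna hexp hu hP0 (fun h => ha1 (mem_bot.1 (h ▸ haP))) huP0 Good hH0
      le_sup_left huH0 ⟨n, mem_sup_right (mem_zpowers n), hnu, hnx, hnr, hna'⟩
      (fun R hR hPR huR V hV huV hVX => by
        set X := Thompson.zjay r R with hX
        have hXR : X ≤ R := Thompson.zjay_le
        have hXp : IsPGroup r X := hR.to_le hXR
        haveI := hV.comm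
        have hXu : X ≤ centralizer ({u} : Set G) := by
          refine (le_centralizer_of_four hV.card hV.sq hVX ?_ fun g hg v hv hv1 hvg w _ hwg => ?_).trans
            (centralizer_le (Set.singleton_subset_iff.2 huV))
          · obtain ⟨k, hk⟩ := IsPGroup.iff_card.1 hXp
            rw [hk]
            exact (hrp.odd_of_ne_two hr).pow
          · by_contra hg1
            exact hF4 g (hzp hXp g hg) hg1 v
              (orderOf_eq_prime (by rw [pow_two]; exact hV.sq v hv) hv1) hvg w hwg
        have hxR : x ∈ R := hPR hxP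
        have hRu : R ⊓ centralizer ({u} : Set G) ≤ zpowers x :=
          hF1 _ (hR.to_le inf_le_left) inf_le_right ⟨hxR, mem_centralizer_singleton_iff.2 hxu.eq⟩
        have hXx : X ≤ zpowers x := (le_inf hXR hXu).trans hRu
        have hXne : X ≠ ⊥ :=
          Thompson.zjay_ne_bot hR (fun h => hx1 (mem_bot.1 (h ▸ hxR))) (Or.inr rfl)
        obtain ⟨y, hyX, hyr⟩ : ∃ y ∈ X, orderOf y = r := by
          haveI : Nontrivial X := (Subgroup.nontrivial_iff_ne_bot X).2 hXne
          obtain ⟨k, hk0, hk⟩ := hXp.nontrivial_iff_card.1 inferInstance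
          obtain ⟨y, hy⟩ := exists_prime_orderOf_dvd_card' r (G := X) (hk ▸ dvd_pow_self r hk0.ne')
          exact ⟨y, y.2, by rwa [Subgroup.orderOf_coe]⟩
        have hy1 : y ≠ 1 := fun h => hrp.ne_one (by rw [← hyr, h, orderOf_one])
        set C := centralizer ({y} : Set G) with hC
        have hconj : ∀ g ∈ R, ∀ t ∈ zpowers y, g * t * g⁻¹ ∈ zpowers y := by
          intro g hg t ht
          obtain ⟨k, rfl⟩ := mem_zpowers_iff.1 ht
          rw [← conj_zpow]
          refine zpow_mem ?_ k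
          have h1 : g * y * g⁻¹ ∈ X :=
            (mem_normalizer_iff.1 (Thompson.le_normalizer_zjay r R hg) y).1 hyX
          exact mem_zpowers_of_dvd (hXx h1) (hXx hyX) (orderOf_injective (MulAut.conj g).toMonoidHom
            (MulAut.conj g).injective y).dvd
        have hRC : R ≤ C := fun g hg => hF2n y (hXx hyX) hy1 g
          (le_normalizer_iff.2 hconj hg)
        have huC : u ∈ C := mem_centralizer_singleton_iff.2 (by
          have h := mem_centralizer_singleton_iff.1 (hXu hyX)
          exact h.symm)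
        set M := R ⊓ ⁅C, C⁆ with hM
        have haM : a ∈ M := ⟨hPR haP,
          mem_commutator_of_inverted (hRC (hPR haP)) huC (hrodd hap a (mem_zpowers a)) hua⟩
        haveI : (M.subgroupOf R).Normal := normal_subgroupOf_of_le_normalizer (by
          refine le_normalizer_iff.2 fun g hg t ht => ⟨(mul_mem (mul_mem hg ht.1) (inv_mem hg) : g * t * g⁻¹ ∈ R), ?_⟩
          exact (mem_normalizer_iff.1 (Coprime.mem_normalizer_commutator
            (le_normalizer (hRC hg)) (le_normalizer (hRC hg))) t).1 ht.2)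
        have hMne : M.subgroupOf R ≠ ⊥ := fun h => by
          have h' : (⟨a, hPR haP⟩ : R) ∈ M.subgroupOf R := haM
          rw [h, mem_bot] at h'
          exact ha1 (congrArg Subtype.val h')
        have hMc := PGroups.inf_center_ne_bot hR _ hMne
        obtain ⟨z, hz, hzr⟩ : ∃ z ∈ M.subgroupOf R ⊓ center R, orderOf z = r := by
          haveI : Nontrivial ↥(M.subgroupOf R ⊓ center R) := (Subgroup.nontrivial_iff_ne_bot _).2 hMc
          obtain ⟨k, hk0, hk⟩ :=
            (hR.to_subgroup (M.subgroupOf R ⊓ center R)).nontrivial_iff_card.1 inferInstance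
          obtain ⟨z, hz⟩ := exists_prime_orderOf_dvd_card' r (G := ↥(M.subgroupOf R ⊓ center R))
            (hk ▸ dvd_pow_self r hk0.ne')
          exact ⟨z, z.2, by rwa [Subgroup.orderOf_coe]⟩
        have hzX : (z : G) ∈ X := mem_zjay_of_central z.2
          (mem_centralizer_iff.2 fun g hg => congrArg Subtype.val (mem_center_iff.1 hz.2 ⟨g, hg⟩))
          (by rw [← hzr, ← Subgroup.orderOf_coe, pow_orderOf_eq_one])
        have hz1 : (z : G) = 1 :=
          mem_bot.1 (hF2 y (hXx hyX) hy1 ▸ (⟨hXx hzX, hz.1.2⟩ : (z : G) ∈ zpowers x ⊓ ⁅C, C⁆))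
        exact hrp.ne_one (by rw [← hzr, ← Subgroup.orderOf_coe, hz1, orderOf_one]))
      (fun K R hK huK hgood hR hPR hRK huR hcard H2 hH2 huH2 hP2 hinf => by
        obtain ⟨m', hm'K, hm'u, hm'x, hm'r, hm'a⟩ := hgood
        set X := Thompson.zjay r R with hX
        have huX : u ∈ normalizer (X : Set G) :=
          Thompson.normalizer_jay_le_normalizer_zjay r R (Thompson.normalizer_le_normalizer_jay r R huR)
        have hndvd : ¬ r ∣ R.relIndex K := by
          intro hd
          have h1 : Nat.card R * R.relIndex K = Nat.card K := by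
            rw [← relIndex_bot_left R, relIndex_mul_relIndex ⊥ R K bot_le hRK, relIndex_bot_left]
          have h2 : r ^ ((Nat.card K).factorization r + 1) ∣ Nat.card K := by
            conv_rhs => rw [← h1, hcard]
            rw [pow_succ]
            exact Nat.mul_dvd_mul_left _ hd
          exact absurd ((hrp.pow_dvd_iff_le_factorization Nat.card_pos.ne').1 h2) (by omega)
        have hfK : ¬ Thompson.HasSection (Cfsg.qd r) K := fun h =>
          hfree (h.of_injective K.subtype_injective)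
        obtain ⟨m, hm, hmc⟩ := Thompson.fuse_in_subgroup (Thompson.zjayW_isPFunctor (e := r) (Or.inr rfl))
          (Thompson.strongFusion_zjay hr (Or.inr rfl) K hfK) (R := R) ⟨hRK, hR, hndvd⟩ (A := {x, a})
          hm'K (by
            intro t ht
            rcases ht with h | h
            · rw [h]; exact hPR hxP
            · rw [Set.mem_singleton_iff.1 h]; exact hPR haP) (by
            rintro _ ⟨t, ht, rfl⟩
            rcases ht with h | h <;> [rw [h]; rw [Set.mem_singleton_iff.1 h]]
            · show m' * x * m'⁻¹ ∈ R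
              rw [hm'x.eq, mul_inv_cancel_right]
              exact hPR hxP
            · show m' * a * m'⁻¹ ∈ R
              rw [hm'a]
              exact pow_mem (hPR haP) e)
        have hmx : m * x * m⁻¹ = x := by
          rw [hmc x (Or.inl rfl), hm'x.eq, mul_inv_cancel_right]
        have hma : m * a * m⁻¹ = a ^ e := by rw [hmc a (Or.inr rfl), hm'a]
        set KX := K ⊓ normalizer (X : Set G) with hKX
        have huKX : zpowers u ≤ normalizer (KX : Set G) := by
          refine zpowers_le.2 (mem_normalizer_iff.2 fun g => ?_)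
          simp only [hKX, mem_inf]
          exact and_congr (mem_normalizer_iff.1 huK g) ⟨fun h => mul_mem (mul_mem huX h) (inv_mem huX),
            fun h => by
              have := mul_mem (mul_mem (inv_mem huX) h) huX
              rwa [show u⁻¹ * (u * g * u⁻¹) * u = g by group] at this⟩
        set DD := KX ⊓ (centralizer ({x} : Set G) ⊓ centralizer ({a} : Set G)) with hDD
        have hmemDD : ∀ g, g ∈ DD ↔ g ∈ KX ∧ g * x * g⁻¹ = x ∧ g * a * g⁻¹ = a := fun g => by
          simp only [hDD, mem_inf, mem_centralizer_singleton_iff, mul_inv_eq_iff_eq_mul]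
        have hconjD : ∀ g ∈ DD, u * g * u⁻¹ ∈ DD := by
          intro g hg
          rw [hmemDD] at hg ⊢
          refine ⟨(mem_normalizer_iff.1 (huKX (mem_zpowers u)) g).1 hg.1, ?_, ?_⟩
          · have hx' : u⁻¹ * x * u = x := by rw [huinv, ← hxu.eq, mul_assoc, hu2, mul_one]
            calc u * g * u⁻¹ * x * (u * g * u⁻¹)⁻¹ = u * (g * (u⁻¹ * x * u) * g⁻¹) * u⁻¹ := by group
              _ = x := by rw [hx', hg.2.1, ← hxu.eq, mul_inv_cancel_right]
          · have ha' : u⁻¹ * a * u = a⁻¹ := by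
              have h := hua
              rw [huinv] at h ⊢
              exact h
            calc u * g * u⁻¹ * a * (u * g * u⁻¹)⁻¹ = u * (g * (u⁻¹ * a * u) * g⁻¹) * u⁻¹ := by group
              _ = u * (g * a * g⁻¹)⁻¹ * u⁻¹ := by rw [ha']; group
              _ = a := by rw [hg.2.2, ← conj_inv, hua, inv_inv]
        have huDD : zpowers u ≤ normalizer (DD : Set G) := by
          refine zpowers_le.2 (mem_normalizer_iff.2 fun g => ⟨hconjD g, fun h => ?_⟩)
          have h' := hconjD _ h
          rwa [show u * (u * g * u⁻¹) * u⁻¹ = (u * u) * g * (u * u)⁻¹ by group, hu2, one_mul, inv_one,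
            mul_one] at h'
        have hKXodd : Odd (Nat.card KX) := hK.of_dvd_nat (card_dvd_of_le inf_le_left)
        obtain ⟨c, hc, hcD⟩ := Coprime.exists_centralizer_mem_coset huKX
          (by rw [Nat.card_zpowers, hu]; exact Nat.coprime_two_left.2 hKXodd) (Or.inl inferInstance)
          (inf_le_left : DD ≤ KX) huDD hm fun v hv => by
            rcases eq_or_eq_of_mem_zpowers hu2 hv with rfl | rfl
            · rw [one_mul, inv_one, mul_one, inv_mul_cancel]
              exact one_mem _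
            · have hum : v * m * v⁻¹ ∈ KX := (mem_normalizer_iff.1 (huKX (mem_zpowers v)) m).1 hm
              have h1 : v * m * v⁻¹ * x * (v * m * v⁻¹)⁻¹ = x := by
                have hx' : v⁻¹ * x * v = x := by rw [huinv, ← hxu.eq, mul_assoc, hu2, mul_one]
                calc v * m * v⁻¹ * x * (v * m * v⁻¹)⁻¹ = v * (m * (v⁻¹ * x * v) * m⁻¹) * v⁻¹ := by group
                  _ = x := by rw [hx', hmx, ← hxu.eq, mul_inv_cancel_right]
              have h2 : v * m * v⁻¹ * a * (v * m * v⁻¹)⁻¹ = a ^ e := by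
                have ha' : v⁻¹ * a * v = a⁻¹ := by
                  have h := hua
                  rw [huinv] at h ⊢
                  exact h
                calc v * m * v⁻¹ * a * (v * m * v⁻¹)⁻¹ = v * (m * (v⁻¹ * a * v) * m⁻¹) * v⁻¹ := by group
                  _ = v * (m * a * m⁻¹)⁻¹ * v⁻¹ := by rw [ha']; group
                  _ = _ := by rw [hma, ← inv_pow, ← conj_pow, ← conj_inv, hua, inv_inv]
              rw [hmemDD]
              refine ⟨mul_mem (inv_mem hm) hum, ?_, ?_⟩
              · calc m⁻¹ * (v * m * v⁻¹) * x * (m⁻¹ * (v * m * v⁻¹))⁻¹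
                      = m⁻¹ * (v * m * v⁻¹ * x * (v * m * v⁻¹)⁻¹) * m := by group
                  _ = m⁻¹ * (m * x * m⁻¹) * m := by rw [h1, hmx]
                  _ = x := by group
              · calc m⁻¹ * (v * m * v⁻¹) * a * (m⁻¹ * (v * m * v⁻¹))⁻¹
                      = m⁻¹ * (v * m * v⁻¹ * a * (v * m * v⁻¹)⁻¹) * m := by group
                  _ = m⁻¹ * (m * a * m⁻¹) * m := by rw [h2, hma]
                  _ = a := by group
        rw [hmemDD] at hcD
        have hcx : c * x * c⁻¹ = x := by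
          calc c * x * c⁻¹ = m * (m⁻¹ * c * x * (m⁻¹ * c)⁻¹) * m⁻¹ := by group
            _ = x := by rw [hcD.2.1, hmx]
        have hca : c * a * c⁻¹ = a ^ e := by
          calc c * a * c⁻¹ = m * (m⁻¹ * c * a * (m⁻¹ * c)⁻¹) * m⁻¹ := by group
            _ = a ^ e := by rw [hcD.2.2, hma]
        have hcu : Commute c u := (mem_centralizer_iff.1 hc.2 u (mem_zpowers u)).symm
        have hcx' : Commute c x := mul_inv_eq_iff_eq_mul.1 hcx
        obtain ⟨k, q, hq, hkq⟩ : ∃ k q, ¬ r ∣ q ∧ orderOf c = r ^ k * q :=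
          Nat.exists_eq_pow_mul_and_not_dvd (orderOf_pos c).ne' r hrp.ne_one
        refine ⟨c ^ r ^ k, pow_mem (hinf hc.1) _, hcu.pow_left _, hcx'.pow_left _, fun h => hq ?_, ?_⟩
        · exact h.trans (orderOf_dvd_of_pow_eq_one (by rw [← pow_mul, ← hkq, pow_orderOf_eq_one]))
        · rw [conj_iterate_eq hca, pow_eq_pow_iff_modEq, orderOf_eq_prime ha ha1,
            ← ZMod.natCast_eq_natCast_iff, Nat.cast_pow, ZMod.pow_card_pow])
  -- pass to the quotient by the `r'`-core of `H ⟨u⟩`
  set L := H ⊔ zpowers u with hL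
  haveI hHnL : (H.subgroupOf L).Normal := normal_subgroupOf_of_le_normalizer
    (sup_le le_normalizer (zpowers_le.2 huH))
  have huL : u ∈ L := mem_sup_right (mem_zpowers u)
  have hinL : ∀ g ∈ H, g ∈ L := fun g hg => mem_sup_left hg
  have haH : a ∈ H := hSH (hP0S haP)
  have hxH : x ∈ H := hSH (hP0S hxP)
  set a' : L := ⟨a, hinL a haH⟩
  set x' : L := ⟨x, hinL x hxH⟩
  set u' : L := ⟨u, huL⟩
  set n'' : L := ⟨n', hinL n' hn'H⟩
  set O := Cfsg.pPrimeCore r L with hO
  haveI : O.Normal := inferInstance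
  have hOc : (Nat.card O).Coprime r := Cores.coprime_card_pPrimeCore
  set π := QuotientGroup.mk' O with hπ
  have hinj : ∀ g : L, IsPGroup r (zpowers g) → π g = 1 → g = 1 := fun g hg h => mem_bot.1
    (Cores.disjoint_of_isPGroup_of_coprime hg hOc ▸
      (⟨mem_zpowers g, (QuotientGroup.eq_one_iff g).1 h⟩ : g ∈ zpowers g ⊓ O))
  have hLp : ∀ {g : L}, IsPGroup r (zpowers (g : G)) → IsPGroup r (zpowers g) := fun {g} hg =>
    (hg.of_equiv (MulEquiv.subgroupCongr (MonoidHom.map_zpowers L.subtype g).symm)).of_equiv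
      ((zpowers g).equivMapOfInjective L.subtype L.subtype_injective).symm
  have hxp' : IsPGroup r (zpowers x') := hLp hxp
  have hap' : IsPGroup r (zpowers a') := hLp hap
  have hx'1 : π x' ≠ 1 := fun h => hx1 (congrArg Subtype.val (hinj x' hxp' h))
  have ha'1 : π a' ≠ 1 := fun h => ha1 (congrArg Subtype.val (hinj a' hap' h))
  have hua' : u' * a' * u'⁻¹ = a'⁻¹ := Subtype.ext hua
  have hu' : orderOf (π u') = 2 := by
    haveI : Fact (Nat.Prime 2) := ⟨Nat.prime_two⟩
    refine orderOf_eq_prime ?_ fun h => ha'1 ?_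
    · rw [pow_two, ← map_mul, show u' * u' = 1 from Subtype.ext hu2, map_one]
    · have h1 := congrArg π hua'
      rw [map_mul, map_mul, h, one_mul, map_inv, h, inv_one, mul_one, map_inv] at h1
      obtain ⟨l, hl⟩ := hrodd hap a (mem_zpowers a)
      have h2 : π a' ^ 2 = 1 := by rw [pow_two]; exact mul_eq_one_iff_eq_inv.2 h1
      have h3 : π a' ^ orderOf a = 1 := by
        rw [← map_pow, show a' ^ orderOf a = 1 from Subtype.ext (pow_orderOf_eq_one a), map_one]
      rwa [hl, pow_succ, pow_mul, h2, one_pow, one_mul] at h3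
  have hCsub : ∀ g : L, (centralizer ({g} : Set L)).map L.subtype ≤ centralizer ({(g : G)} : Set G) := by
    rintro g _ ⟨c, hc, rfl⟩
    exact mem_centralizer_singleton_iff.2 (congrArg Subtype.val (mem_centralizer_singleton_iff.1 hc))
  have hCcard : ∀ {p : ℕ} [Fact p.Prime], (Nat.card O).Coprime p → ∀ g : L, IsPGroup p (zpowers g) →
      Nat.card (centralizer ({π g} : Set (L ⧸ O))) ∣ Nat.card (centralizer ({(g : G)} : Set G)) := by
    intro p _ hp g hg
    rw [hπ, ← map_centralizer_singleton O hp hg]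
    refine (Subgroup.card_dvd_of_surjective _ ((QuotientGroup.mk' O).subgroupMap_surjective _)).trans ?_
    rw [← Subgroup.card_map_of_injective L.subtype_injective]
    exact card_dvd_of_le (hCsub g)
  haveI : Fact (Nat.Prime 2) := ⟨Nat.prime_two⟩
  have hup' : IsPGroup 2 (zpowers u') := IsPGroup.of_card (n := 1)
    (by rw [Nat.card_zpowers, ← Subgroup.orderOf_coe, pow_one]; exact hu)
  have hHodd' : Odd (Nat.card (H.subgroupOf L)) := by
    rw [Nat.card_congr (subgroupOfEquivOfLe (le_sup_left : H ≤ L)).toEquiv]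
    exact hH
  have hO2 : (Nat.card O).Coprime 2 := by
    refine Nat.coprime_two_right.2 (Nat.not_even_iff_odd.1 fun hev => ?_)
    obtain ⟨v, hv⟩ := exists_prime_orderOf_dvd_card' 2 (G := O) (even_iff_two_dvd.1 hev)
    have hvH : (v : L) ∉ H.subgroupOf L := fun hmem => by
      have h2 := orderOf_dvd_natCard (H.subgroupOf L) hmem
      rw [Subgroup.orderOf_coe, hv] at h2
      exact Nat.not_even_iff_odd.2 hHodd' (even_iff_two_dvd.2 h2)
    obtain ⟨h, hh, w, hw, hvw⟩ := (Coprime.mem_sup_iff (zpowers_le.2 huH)).1 (v : L).2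
    rcases eq_or_eq_of_mem_zpowers hu2 hw with rfl | rfl
    · exact hvH (by rw [mem_subgroupOf, ← hvw, mul_one]; exact hh)
    · have e : π u' = π (⟨h, hinL h hh⟩⁻¹ : L) := by
        have h1 : π (v : L) = 1 := (QuotientGroup.eq_one_iff _).2 v.2
        rw [show (v : L) = ⟨h, hinL h hh⟩ * u' from Subtype.ext hvw.symm, map_mul] at h1
        rw [map_inv]
        exact eq_inv_of_mul_eq_one_right h1
      have h2 : orderOf (π u') ∣ Nat.card (H.subgroupOf L) := by
        rw [e]
        exact (orderOf_map_dvd π _).trans (orderOf_dvd_natCard _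
          (inv_mem (show (⟨h, hinL h hh⟩ : L) ∈ H.subgroupOf L from hh)))
      rw [hu'] at h2
      exact Nat.not_even_iff_odd.2 hHodd' (even_iff_two_dvd.2 h2)
  haveI hHb : ((H.subgroupOf L).map π).Normal := hHnL.map π (QuotientGroup.mk'_surjective O)
  have hZ : zpowers (π x') = (zpowers x').map π := (MonoidHom.map_zpowers π x').symm
  have hcardx : Nat.card (zpowers (π x')) = Nat.card (zpowers x) := by
    rw [Nat.card_zpowers, Nat.card_zpowers, show orderOf x = orderOf x' from Subgroup.orderOf_coe x']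
    refine Nat.dvd_antisymm (orderOf_map_dvd π x') (orderOf_dvd_of_pow_eq_one ?_)
    refine hinj _ (hxp'.to_le (zpowers_le.2 (pow_mem (mem_zpowers x') _))) ?_
    rw [map_pow, pow_orderOf_eq_one]
  have hlift : ∀ (g : L) (p : ℕ) [Fact p.Prime], (Nat.card O).Coprime p → IsPGroup p (zpowers g) →
      ∀ t ∈ zpowers x', t ∈ centralizer ({g} : Set L) →
      π t ∈ ⁅centralizer ({π g} : Set (L ⧸ O)), centralizer ({π g} : Set (L ⧸ O))⁆ →
      (t : G) ∈ ⁅centralizer ({(g : G)} : Set G), centralizer ({(g : G)} : Set G)⁆ := by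
    intro g p _ hp hg t ht htC htd
    rw [hπ, ← map_centralizer_singleton O hp hg, ← map_commutator] at htd
    obtain ⟨c, hc, hct⟩ := htd
    have h := mem_map_of_mem L.subtype
      (mem_commutator_of_congr O hOc htC (hxp'.to_le (zpowers_le.2 ht)) hc hct.symm)
    rw [map_commutator] at h
    exact commutator_mono (hCsub g) (hCsub g) h
  refine core_small hr (Cores.pPrimeCore_quotient_pPrimeCore (p := r) (G := L))
    (Hb := (H.subgroupOf L).map π) (hHodd'.of_dvd_nat (card_map_dvd _ π)) (u := π u') hu' ?_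
    (x := π x') (a := π a') (n := π n'') ?_ hx'1
    (by rw [commute_iff_eq, ← map_mul, ← map_mul, show x' * u' = u' * x' from Subtype.ext hxu.eq])
    (mem_map_of_mem π (show a' ∈ H.subgroupOf L from haH))
    (by rw [← map_pow, show a' ^ r = 1 from Subtype.ext ha, map_one]) ha'1
    (by rw [commute_iff_eq, ← map_mul, ← map_mul, show a' * x' = x' * a' from Subtype.ext hax.eq])
    (by rw [← map_inv, ← map_inv, ← map_mul, ← map_mul, hua'])
    (mem_map_of_mem π (show n'' ∈ H.subgroupOf L from hn'H))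
    (by rw [commute_iff_eq, ← map_mul, ← map_mul, show n'' * u' = u' * n'' from Subtype.ext hn'u.eq])
    (by rw [commute_iff_eq, ← map_mul, ← map_mul, show n'' * x' = x' * n'' from Subtype.ext hn'x.eq])
    (fun h => hn'r (h.trans ((orderOf_map_dvd π n'').trans (by rw [← Subgroup.orderOf_coe]))))
    (e := e)
    (by rw [← map_inv, ← map_mul, ← map_mul, ← map_pow,
      show n'' * a' * n''⁻¹ = a' ^ e from Subtype.ext hn'a])
    he ?_ ?_ ?_ ?_ ?_
  · rw [← MonoidHom.map_zpowers, ← Subgroup.map_sup, ← MonoidHom.range_eq_top.2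
      (QuotientGroup.mk'_surjective O), MonoidHom.range_eq_map]
    congr 1
    rw [eq_top_iff]
    rintro ⟨g, hg⟩ -
    obtain ⟨h, hh, w, hw, rfl⟩ := (Coprime.mem_sup_iff (zpowers_le.2 huH)).1 hg
    rcases eq_or_eq_of_mem_zpowers hu2 hw with rfl | rfl
    · exact mem_sup_left (show h * 1 ∈ H by rwa [mul_one])
    · exact (show (⟨h * w, hg⟩ : L) = ⟨h, hinL h hh⟩ * u' from rfl) ▸
        mul_mem (mem_sup_left (show (⟨h, hinL h hh⟩ : L) ∈ H.subgroupOf L from hh))
          (mem_sup_right (mem_zpowers u'))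
  · rw [hZ]
    exact hxp'.map π
  · rw [hcardx]
    refine le_trans ?_ hK2
    exact (Nat.factorization_le_iff_dvd Nat.card_pos.ne' Nat.card_pos.ne').2 (hCcard hOc x' hxp') r
  · intro K hK hKu hxK
    refine (eq_of_le_of_card_ge (zpowers_le.2 hxK) ?_).ge
    obtain ⟨k, hk⟩ := IsPGroup.iff_card.1 hK
    obtain ⟨S0, hS0⟩ := (hxp.comap_of_injective (centralizer ({u} : Set G)).subtype
      (centralizer ({u} : Set G)).subtype_injective).exists_le_sylow
    have hxS0 : x ∈ (S0 : Subgroup ↥(centralizer ({u} : Set G))).map (centralizer ({u} : Set G)).subtype :=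
      ⟨⟨x, mem_centralizer_singleton_iff.2 hxu.eq⟩, hS0 (mem_zpowers x), rfl⟩
    have hle := hF1 _ (S0.isPGroup'.map _) (map_subtype_le _) hxS0
    have h1 : r ^ k ∣ Nat.card (S0 : Subgroup ↥(centralizer ({u} : Set G))) := by
      refine S0.pow_dvd_card_of_pow_dvd_card ?_
      rw [← hk]
      exact (card_dvd_of_le hKu).trans (hCcard hO2 u' hup')
    rw [hk, hcardx]
    refine Nat.le_of_dvd Nat.card_pos (h1.trans ?_)
    rw [← Subgroup.card_map_of_injective (centralizer ({u} : Set G)).subtype_injective]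
    exact card_dvd_of_le hle
  · intro y hy hy1
    rw [eq_bot_iff]
    rintro g ⟨hgx, hgd⟩
    rw [hZ] at hy hgx
    obtain ⟨y', hy', rfl⟩ := hy
    obtain ⟨t, ht, rfl⟩ := hgx
    have hy'1 : (y' : G) ≠ 1 := fun h => hy1 (by
      rw [show y' = 1 from Subtype.ext h, map_one])
    have hyx : (y' : G) ∈ zpowers x := by
      obtain ⟨k, rfl⟩ := mem_zpowers_iff.1 hy'
      exact mem_zpowers_iff.2 ⟨k, (SubgroupClass.coe_zpow x' k).symm⟩
    have htx : (t : G) ∈ zpowers x := by
      obtain ⟨k, rfl⟩ := mem_zpowers_iff.1 ht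
      exact mem_zpowers_iff.2 ⟨k, (SubgroupClass.coe_zpow x' k).symm⟩
    have htC : t ∈ centralizer ({y'} : Set L) := by
      obtain ⟨k, rfl⟩ := mem_zpowers_iff.1 hy'
      obtain ⟨j, rfl⟩ := mem_zpowers_iff.1 ht
      exact mem_centralizer_singleton_iff.2 (Commute.zpow_zpow_self x' j k).eq
    have h := hlift y' r hOc (hxp'.to_le (zpowers_le.2 hy')) t ht htC hgd
    have ht1 : (t : G) = 1 :=
      mem_bot.1 (hF2 _ hyx hy'1 ▸ (⟨htx, h⟩ : (t : G) ∈ zpowers x ⊓ ⁅_, _⁆))
    rw [mem_bot, show t = 1 from Subtype.ext ht1, map_one]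
  · rw [eq_bot_iff]
    rintro g ⟨hgx, hgd⟩
    rw [hZ] at hgx
    obtain ⟨t, ht, rfl⟩ := hgx
    have htx : (t : G) ∈ zpowers x := by
      obtain ⟨k, rfl⟩ := mem_zpowers_iff.1 ht
      exact mem_zpowers_iff.2 ⟨k, (SubgroupClass.coe_zpow x' k).symm⟩
    have htC : t ∈ centralizer ({u'} : Set L) := by
      obtain ⟨j, rfl⟩ := mem_zpowers_iff.1 ht
      exact mem_centralizer_singleton_iff.2
        ((show Commute x' u' from Subtype.ext hxu.eq).zpow_left j).eq
    have h := hlift u' 2 hO2 hup' t ht htC hgd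
    have ht1 : (t : G) = 1 := mem_bot.1 (hF3 ▸ (⟨htx, h⟩ : (t : G) ∈ zpowers x ⊓ ⁅_, _⁆))
    rw [mem_bot, show t = 1 from Subtype.ext ht1, map_one]
  · have hxd : x' ∈ _root_.commutator L := by
      have h := hSD (hP0S hxP)
      rw [← map_subtype_commutator] at h
      obtain ⟨t, ht, e⟩ := h
      rwa [show x' = t from Subtype.ext e.symm]
    have h := mem_map_of_mem π hxd
    rw [_root_.commutator_def, map_commutator] at h
    rw [_root_.commutator_def]
    exact commutator_mono le_top le_top h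

end Cfsg.Agent.H27.E0
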