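import Cfsg.Agent.H27.E0.Weight
import Cfsg.Agent.H27.E0.Linear
import Cfsg.Agent.PGroups.Basic

/-!
# 3-groups with an inverting involution and a fixed line

`S` is a 3-group normalised by the involution `u` with cyclic fixed subgroup `⟨x⟩` avoiding the derived groups
of the centralizers of its elements.  `ρ` is a representation in odd characteristic `≠ 3` in which the fixed
vectors of `u` lie on a line, faithful on the inverted elements of `S`.  Then `S` is abelian with at most nine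
elements of order dividing three.
-/

set_option autoImplicit false
set_option linter.unusedSectionVars false
set_option linter.style.haveILetI false

namespace Cfsg.Agent.H27.E0

open Subgroup Module

universe u v w

section Plane

variable {F : Type u} [Field F] {V : Type v} [AddCommGroup V] [Module F V] [Module.Finite F V]

/-- An element `a ≠ 1` of order prime to the characteristic inverted by `ε` moves the fixed line and its
commutator space is spanned by the line and its image. -/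
theorem plane_of_inverted (h2F : (2 : F) ≠ 0) {a ε : V ≃ₗ[F] V} (ho : Odd (orderOf a))
    (hk : (orderOf a : F) ≠ 0) (ha1 : a ≠ 1) (hε : ∀ v, ε (ε v) = v)
    (hinv : ∀ v, ε (a v) = a⁻¹ (ε v)) {y : V} (hy : ε y = y)
    (hfix : ∀ v, ε v = v → ∃ t : F, v = t • y) :
    ∃ W : Submodule F V, (∀ v, a v - v ∈ W) ∧ (∀ w, w ∈ W → ∃ v, w = a v - v) ∧ y ∈ W ∧ a y ≠ y ∧
      (∀ w ∈ W, a w - a⁻¹ w = 0 → w = 0) ∧ a y - a⁻¹ y ∈ W ∧
      (∀ w ∈ W, ∃ α β : F, w = α • y + β • (a y - a⁻¹ y)) := by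
  obtain ⟨l, hl⟩ := ho
  set T : V →ₗ[F] V := (a : V →ₗ[F] V) - LinearMap.id with hT
  set W : Submodule F V := LinearMap.range T with hW
  have hTv : ∀ v, T v = a v - v := fun v => rfl
  have haW : ∀ v, a v ∈ W ↔ v ∈ W := fun v =>
    ⟨fun h => by
      have h' := W.sub_mem h (⟨v, rfl⟩ : T v ∈ W)
      rwa [hTv, sub_sub_cancel] at h', fun h => by
      have h' := W.add_mem h (⟨v, rfl⟩ : T v ∈ W)
      rwa [hTv, add_sub_cancel] at h'⟩
  have haS : a ∈ stab W := haW
  have haiW : ∀ v, v ∈ W → a⁻¹ v ∈ W := fun v hv => ((inv_mem haS) v).2 hv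
  have hεW : ∀ v, v ∈ W → ε v ∈ W := by
    rintro _ ⟨v, rfl⟩
    rw [hTv, map_sub, hinv]
    have h := W.neg_mem (haiW _ ⟨ε v, rfl⟩)
    rw [hTv, map_sub, show a⁻¹ (a (ε v)) = ε v from a.symm_apply_apply _, neg_sub] at h
    exact h
  have hnofix : ∀ w ∈ W, a w = w → w = 0 := by
    rintro _ ⟨v, rfl⟩ h
    rw [hTv] at h ⊢
    have h' := apply_pow_of_sq_zero h (orderOf a)
    rw [pow_orderOf_eq_one, LinearEquiv.coe_one, id, left_eq_add] at h'
    exact (smul_eq_zero.1 h').resolve_left hk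
  set d : V →ₗ[F] V := (a : V →ₗ[F] V) - ((a⁻¹ : V ≃ₗ[F] V) : V →ₗ[F] V) with hd
  have hdv : ∀ v, d v = a v - a⁻¹ v := fun v => rfl
  have hdW : ∀ w ∈ W, d w ∈ W := fun w hw => W.sub_mem ((haW w).2 hw) (haiW w hw)
  have hdinj : ∀ w ∈ W, d w = 0 → w = 0 := by
    intro w hw h
    refine hnofix w hw ?_
    rw [hdv, sub_eq_zero] at h
    have h2 : (a ^ 2) w = w := by
      rw [pow_two, LinearEquiv.mul_apply, h]
      exact a.apply_symm_apply w
    have h3 : ∀ j : ℕ, (a ^ (2 * j)) w = w := by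
      intro j
      induction j with
      | zero => simp
      | succ j ih => rw [Nat.mul_succ, pow_add, LinearEquiv.mul_apply, h2, ih]
    have h4 : a ^ (2 * (l + 1)) = a := by
      rw [show 2 * (l + 1) = orderOf a + 1 by omega, pow_succ, pow_orderOf_eq_one, one_mul]
    rw [← h4]
    exact h3 (l + 1)
  have hεd : ∀ v, ε (d v) = -d (ε v) := by
    intro v
    have hinv' : ε (a⁻¹ v) = a (ε v) := by
      have h5 := hinv (ε (a (ε v)))
      rw [hε] at h5
      have h6 := hinv (ε v)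
      rw [hε] at h6
      rw [← h6, hε]
    rw [hdv, hdv, map_sub, hinv, hinv', neg_sub]
  have hhalf : ∀ w : V, w = (2 : F)⁻¹ • (w + ε w) + (2 : F)⁻¹ • (w - ε w) := fun w => by
    rw [← smul_add, show w + ε w + (w - ε w) = (2 : F) • w by rw [two_smul]; abel, smul_smul,
      inv_mul_cancel₀ h2F, one_smul]
  have hplus : ∀ w : V, ε (w + ε w) = w + ε w := fun w => by rw [map_add, hε, add_comm]
  have hminus : ∀ w : V, ε (w - ε w) = -(w - ε w) := fun w => by rw [map_sub, hε, neg_sub]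
  have hne : W ≠ ⊥ := fun h => ha1 (LinearEquiv.ext fun v => by
    have h' : T v ∈ W := ⟨v, rfl⟩
    rw [h, Submodule.mem_bot, hTv, sub_eq_zero] at h'
    exact h')
  have hyW : y ∈ W ∧ y ≠ 0 := by
    by_contra hyW
    have hfix0 : ∀ w ∈ W, ε w = w → w = 0 := by
      intro w hw he
      obtain ⟨t, rfl⟩ := hfix w he
      by_contra h0
      rw [smul_eq_zero, not_or] at h0
      exact hyW ⟨by simpa [smul_smul, inv_mul_cancel₀ h0.1] using W.smul_mem t⁻¹ hw, h0.2⟩
    refine hne ((Submodule.eq_bot_iff _).2 fun w hw => ?_)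
    have h1 : w + ε w = 0 := hfix0 _ (W.add_mem hw (hεW w hw)) (hplus w)
    have h2 : ε w = -w := eq_neg_of_add_eq_zero_right h1
    exact hdinj w hw (hfix0 _ (hdW w hw) (by rw [hεd, h2, map_neg, neg_neg]))
  obtain ⟨hyW, hy0⟩ := hyW
  set y' := d y with hy'
  have hy'W : y' ∈ W := hdW y hyW
  have hy'0 : y' ≠ 0 := fun h => hy0 (hdinj y hyW h)
  have hy'n : ε y' = -y' := by rw [hy', hεd, hy]
  obtain ⟨s, hs⟩ := hfix (d y') (by rw [hεd, hy'n, map_neg, neg_neg])
  have hs0 : s ≠ 0 := fun h => hy'0 (hdinj y' hy'W (by rw [hs, h, zero_smul]))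
  have hmem : ∀ w ∈ W, ∃ α β : F, w = α • y + β • y' := by
    intro w hw
    obtain ⟨t, ht⟩ := hfix _ (hplus w)
    have hwm : w - ε w ∈ W := W.sub_mem hw (hεW w hw)
    obtain ⟨t', ht'⟩ := hfix (d (w - ε w)) (by rw [hεd, hminus, map_neg, neg_neg])
    have he : w - ε w = (t' / s) • y' := by
      refine sub_eq_zero.1 (hdinj _ (W.sub_mem hwm (W.smul_mem _ hy'W)) ?_)
      rw [map_sub, ht', map_smul, hs, smul_smul, div_mul_cancel₀ _ hs0, sub_self]
    refine ⟨(2 : F)⁻¹ * t, (2 : F)⁻¹ * (t' / s), ?_⟩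
    conv_lhs => rw [hhalf w]
    rw [ht, he, smul_smul, smul_smul]
  exact ⟨W, fun v => ⟨v, rfl⟩, fun w hw => by
    obtain ⟨v, rfl⟩ := hw
    exact ⟨v, rfl⟩, hyW, fun h => hy0 (hnofix y hyW h), hdinj, hy'W, hmem⟩

end Plane

variable {L : Type w} [Group L] [Finite L]
  {F : Type u} [Field F] {V : Type v} [AddCommGroup V] [Module F V] [Module.Finite F V]

set_option maxHeartbeats 400000 in
/-- `S` is abelian with at most nine elements of order dividing three. -/
theorem abelian_small {S : Subgroup L} (hS : IsPGroup 3 S) {u x : L} (hu2 : u * u = 1)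
    (huS : u ∈ normalizer (S : Set L)) (hxS : x ∈ S) (hxu : Commute x u)
    (hfix : ∀ g ∈ S, Commute g u → g ∈ zpowers x)
    (hker : ∀ y ∈ zpowers x, y ≠ 1 →
      zpowers x ⊓ ⁅centralizer ({y} : Set L), centralizer ({y} : Set L)⁆ = ⊥)
    (ρ : L →* (V ≃ₗ[F] V)) (h2F : (2 : F) ≠ 0) (h3F : (3 : F) ≠ 0) {y0 : V} (hy0 : ρ u y0 = y0)
    (hfixV : ∀ v, ρ u v = v → ∃ t : F, v = t • y0)
    (hinj : ∀ a ∈ S, u * a * u⁻¹ = a⁻¹ → ρ a = 1 → a = 1) :
    (∀ g ∈ S, ∀ h ∈ S, g * h = h * g) ∧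
      ∀ Ω : Subgroup L, Ω ≤ S → (∀ g ∈ Ω, g ^ 3 = 1) → Nat.card Ω ≤ 9 := by
  haveI : Fact (Nat.Prime 3) := ⟨Nat.prime_three⟩
  have huinv : u⁻¹ = u := inv_eq_of_mul_eq_one_right hu2
  have hodd : Odd (Nat.card S) := by
    obtain ⟨k, hk⟩ := IsPGroup.iff_card.1 hS
    rw [hk]
    exact (Nat.odd_iff.2 rfl : Odd 3).pow
  have hoddel : ∀ g ∈ S, Odd (orderOf g) := fun g hg => hodd.of_dvd_nat (orderOf_dvd_natCard S hg)
  have hone : ∀ g ∈ S, g ^ 2 = 1 → g = 1 := fun g hg h => by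
    obtain ⟨l, hl⟩ := hoddel g hg
    have h3 := pow_orderOf_eq_one g
    rwa [hl, pow_succ, pow_mul, h, one_pow, one_mul] at h3
  have hboth : ∀ g ∈ S, u * g * u⁻¹ = g⁻¹ → Commute g u → g = 1 := fun g hg h hc => hone g hg (by
    rw [← hc.eq, mul_inv_cancel_right] at h
    rw [pow_two]
    exact mul_eq_one_iff_eq_inv.2 h)
  have hfixed : ∀ g, u * g * u⁻¹ = g → Commute g u := fun g h => (mul_inv_eq_iff_eq_mul.1 h).symm
  set υ : MulAut S := resAut (MulAut.conj u) S fun s hs => (mem_normalizer_iff.1 huS s).1 hs with hυdef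
  have hυ : ∀ q, υ (υ q) = q := fun q => Subtype.ext (by
    show u * (u * (q : L) * u⁻¹) * u⁻¹ = q
    rw [show u * (u * (q : L) * u⁻¹) * u⁻¹ = (u * u) * q * (u * u)⁻¹ by group, hu2, one_mul, inv_one,
      mul_one])
  have hdec : ∀ g ∈ S, ∃ f i, f ∈ zpowers x ∧ i ∈ S ∧ u * i * u⁻¹ = i⁻¹ ∧ g = f * i := by
    intro g hg
    obtain ⟨f, i, hf, hi, he⟩ := exists_fixed_mul_inverted hodd hυ (⟨g, hg⟩ : S)
    exact ⟨f, i, hfix f f.2 (hfixed _ (congrArg Subtype.val hf)), i.2, congrArg Subtype.val hi,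
      congrArg Subtype.val he⟩
  have hxS' : zpowers x ≤ S := zpowers_le.2 hxS
  have hxc : ∀ g ∈ zpowers x, Commute g u := fun g hg => by
    obtain ⟨k, rfl⟩ := mem_zpowers_iff.1 hg
    exact hxu.zpow_left k
  have hxx : ∀ g ∈ zpowers x, ∀ h ∈ zpowers x, Commute g h := fun g hg h hh => by
    obtain ⟨k, rfl⟩ := mem_zpowers_iff.1 hg
    obtain ⟨j, rfl⟩ := mem_zpowers_iff.1 hh
    exact Commute.zpow_zpow_self x k j
  -- a cyclic group has at most three solutions of `g ^ 3 = 1`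
  obtain ⟨x1, hx1⟩ : ∃ x1, ∀ g ∈ zpowers x, g ^ 3 = 1 → ∃ i : Fin 3, g = x1 ^ (i : ℕ) := by
    by_cases h : ∃ g ∈ zpowers x, g ^ 3 = 1 ∧ g ≠ 1
    · obtain ⟨g, hg, hg3, hg1⟩ := h
      refine ⟨g, fun h hh hh3 => ?_⟩
      have ho : orderOf g = 3 := orderOf_eq_prime hg3 hg1
      obtain ⟨k, hk⟩ : h ∈ zpowers g := by
        classical
        cases nonempty_fintype L
        have hle : (Finset.univ.filter fun t : zpowers x => t ^ 3 = 1).card ≤ 3 :=
          IsCyclic.card_pow_eq_one_le (by norm_num)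
        by_contra hnot
        have hsub : ({1, ⟨g, hg⟩, ⟨g, hg⟩ ^ 2, ⟨h, hh⟩} : Finset (zpowers x)) ⊆
            Finset.univ.filter fun t : zpowers x => t ^ 3 = 1 := by
          intro t ht
          simp only [Finset.mem_insert, Finset.mem_singleton] at ht
          simp only [Finset.mem_filter, Finset.mem_univ, true_and]
          refine Subtype.ext ?_
          rw [Subgroup.coe_pow]
          rcases ht with rfl | rfl | rfl | rfl
          · simp
          · exact hg3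
          · rw [Subgroup.coe_pow, ← pow_mul, mul_comm, pow_mul, hg3, one_pow]; rfl
          · exact hh3
        have h1 : (1 : L) ≠ g := Ne.symm hg1
        have h2 : (1 : L) ≠ g ^ 2 := fun e => hg1 (by rw [← pow_orderOf_eq_one g, ho, pow_succ, ← e, one_mul])
        have h3 : g ≠ g ^ 2 := fun e => hg1 (by rw [pow_two, left_eq_mul] at e; exact e)
        have h4 : ∀ t ∈ ({1, g, g ^ 2} : Set L), t ≠ h := by
          rintro t (rfl | rfl | rfl) rfl
          · exact hnot (one_mem _)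
          · exact hnot (mem_zpowers _)
          · exact hnot (pow_mem (mem_zpowers g) 2)
        have hcard : ({1, ⟨g, hg⟩, ⟨g, hg⟩ ^ 2, ⟨h, hh⟩} : Finset (zpowers x)).card = 4 := by
          rw [Finset.card_insert_of_notMem, Finset.card_insert_of_notMem, Finset.card_pair]
          · intro e; exact h4 (g ^ 2) (by simp) (congrArg Subtype.val e)
          · simp only [Finset.mem_insert, Finset.mem_singleton, not_or]
            exact ⟨fun e => h3 (congrArg Subtype.val e), fun e => h4 g (by simp) (congrArg Subtype.val e)⟩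
          · simp only [Finset.mem_insert, Finset.mem_singleton, not_or]
            exact ⟨fun e => h1 (congrArg Subtype.val e), fun e => h2 (congrArg Subtype.val e),
              fun e => h4 1 (by simp) (congrArg Subtype.val e)⟩
        have := (Finset.card_le_card hsub).trans hle
        omega
      refine ⟨⟨(k % 3).toNat, by omega⟩, ?_⟩
      show h = g ^ (k % 3).toNat
      rw [← zpow_natCast, Int.toNat_of_nonneg (Int.emod_nonneg k (by norm_num)), ← hk]
      have := zpow_mod_orderOf g k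
      rw [ho] at this
      exact this.symm
    · simp only [not_exists, not_and, not_not] at h
      exact ⟨1, fun g hg hg3 => ⟨0, by rw [one_pow]; exact h g hg hg3⟩⟩
  suffices key : ∃ z1, (∀ g ∈ S, ∀ h ∈ S, g * h = h * g) ∧
      ∀ a ∈ S, u * a * u⁻¹ = a⁻¹ → a ^ 3 = 1 → ∃ j : Fin 3, a = z1 ^ (j : ℕ) by
    obtain ⟨z1, hab, hz1⟩ := key
    refine ⟨hab, fun Ω hΩ hΩ3 => ?_⟩
    have hsurj : ∀ g : Ω, ∃ p : Fin 3 × Fin 3, (g : L) = x1 ^ (p.1 : ℕ) * z1 ^ (p.2 : ℕ) := by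
      intro g
      obtain ⟨f, i, hf, hi, hui, he⟩ := hdec g (hΩ g.2)
      have hc : Commute f i := hab f (hxS' hf) i hi
      have h3 : f ^ 3 * i ^ 3 = 1 := by rw [← hc.mul_pow, ← he]; exact hΩ3 g g.2
      have hi3 : u * i ^ 3 * u⁻¹ = (i ^ 3)⁻¹ := by rw [← conj_pow, hui, inv_pow]
      have h5 : i ^ 3 = 1 := by
        refine hboth _ (pow_mem hi 3) hi3 ?_
        rw [eq_inv_of_mul_eq_one_right h3]
        exact hxc _ (inv_mem (pow_mem hf 3))
      rw [h5, mul_one] at h3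
      obtain ⟨p, hp⟩ := hx1 f hf h3
      obtain ⟨q, hq⟩ := hz1 i hi hui h5
      exact ⟨(p, q), by rw [he, hp, hq]⟩
    choose φ hφ using hsurj
    have := Nat.card_le_card_of_injective φ fun g g' e => Subtype.ext (by rw [hφ g, hφ g', e])
    simpa using this
  by_cases hall : ∀ a ∈ S, u * a * u⁻¹ = a⁻¹ → a = 1
  · refine ⟨1, fun g hg h hh => ?_, fun a ha hua _ => ⟨0, by rw [one_pow]; exact hall a ha hua⟩⟩
    have hcyc : ∀ g ∈ S, g ∈ zpowers x := fun g hg => by
      obtain ⟨f, i, hf, hi, hui, rfl⟩ := hdec g hg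
      rwa [hall i hi hui, mul_one]
    exact hxx g (hcyc g hg) h (hcyc h hh)
  -- a central inverted element
  obtain ⟨z, hzS, huz, hz1, hzc⟩ :
      ∃ z ∈ S, u * z * u⁻¹ = z⁻¹ ∧ z ≠ 1 ∧ ∀ g ∈ S, g * z = z * g := by
    by_contra hno
    simp only [not_exists, not_and] at hno
    simp only [not_forall, exists_prop] at hall
    obtain ⟨a, ha, hua, ha1⟩ := hall
    haveI : Nontrivial S := ⟨⟨⟨a, ha⟩, 1, fun e => ha1 (congrArg Subtype.val e)⟩⟩
    haveI := hS.center_nontrivial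
    obtain ⟨⟨⟨y, hyS⟩, hyc⟩, hyne⟩ := exists_ne (1 : center S)
    have hyc' : ∀ g ∈ S, g * y = y * g := fun g hg =>
      congrArg Subtype.val (mem_center_iff.1 hyc ⟨g, hg⟩)
    have hy1 : y ≠ 1 := fun e => hyne (Subtype.ext (Subtype.ext e))
    have huy : u * y * u⁻¹ ∈ S := (mem_normalizer_iff.1 huS y).1 hyS
    have hyu : Commute y u := by
      refine hfixed y ?_
      by_contra hne
      refine hno (y⁻¹ * (u * y * u⁻¹)) (mul_mem (inv_mem hyS) huy) ?_ ?_ fun g hg => ?_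
      · have hyy : u * y * u⁻¹ * y⁻¹ = y⁻¹ * (u * y * u⁻¹) :=
          (Commute.inv_right (show Commute (u * y * u⁻¹) y from hyc' _ huy)).eq
        calc u * (y⁻¹ * (u * y * u⁻¹)) * u⁻¹ = (u * y * u⁻¹)⁻¹ * ((u * u) * y * (u * u)⁻¹) := by group
          _ = (y⁻¹ * (u * y * u⁻¹))⁻¹ := by rw [hu2, one_mul, inv_one, mul_one]; group
      · exact fun e => hne (inv_mul_eq_one.1 e).symm
      · have hc1 : Commute g y := hyc' g hg
        have hgu : u * g * u⁻¹ ∈ S := (mem_normalizer_iff.1 huS g).1 hg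
        have hc2 : Commute g (u * y * u⁻¹) := by
          have h : Commute (u * g * u⁻¹) y := hyc' _ hgu
          have := (commute_iff_eq _ _).1 h
          rw [commute_iff_eq]
          have huu : u * (u * g * u⁻¹) * u⁻¹ = g := by
            rw [show u * (u * g * u⁻¹) * u⁻¹ = (u * u) * g * (u * u)⁻¹ by group, hu2, one_mul, inv_one,
              mul_one]
          calc g * (u * y * u⁻¹) = u * (u * g * u⁻¹) * u⁻¹ * (u * y * u⁻¹) := by rw [huu]
            _ = u * (u * g * u⁻¹ * y) * u⁻¹ := by group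
            _ = u * (y * (u * g * u⁻¹)) * u⁻¹ := by rw [this]
            _ = u * y * u⁻¹ * (u * (u * g * u⁻¹) * u⁻¹) := by group
            _ = _ := by rw [huu]
        exact (hc1.inv_right.mul_right hc2).eq
    have hyx := hfix y hyS hyu
    set C := centralizer ({y} : Set L) with hC
    have huC : u ∈ C := mem_centralizer_singleton_iff.2 hyu.eq.symm
    have hSC : S ≤ C := fun g hg => mem_centralizer_singleton_iff.2 (hyc' g hg)
    set A : Subgroup L := closure {a | a ∈ S ∧ u * a * u⁻¹ = a⁻¹} with hA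
    have hAS : A ≤ S := (closure_le _).2 fun a ha => ha.1
    have hAC : A ≤ ⁅C, C⁆ := (closure_le _).2 fun b hb => by
      obtain ⟨l, hl⟩ := hoddel b hb.1
      have h2 : b ^ 2 ∈ ⁅C, C⁆ := by
        have h := commutator_mem_commutator (hSC hb.1) huC
        rw [commutatorElement_def] at h
        rwa [show b * u * b⁻¹ * u⁻¹ = b * (u * b * u⁻¹)⁻¹ by group, hb.2, inv_inv, ← pow_two] at h
      have h3 : b = (b ^ 2) ^ (l + 1) := by
        rw [← pow_mul, show 2 * (l + 1) = orderOf b + 1 by omega, pow_succ, pow_orderOf_eq_one, one_mul]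
      show b ∈ ⁅C, C⁆
      rw [h3]
      exact pow_mem h2 _
    have hAinv : ∀ g ∈ A, u * g * u⁻¹ = g⁻¹ := by
      intro g hg
      obtain ⟨f, i, hf, hi, hui, rfl⟩ := hdec g (hAS hg)
      have hiA : i ∈ A := subset_closure ⟨hi, hui⟩
      have hfA : f ∈ A := by simpa using mul_mem hg (inv_mem hiA)
      have hf1 : f = 1 := mem_bot.1 (hker y hyx hy1 ▸ (⟨hf, hAC hfA⟩ : f ∈ zpowers x ⊓ ⁅C, C⁆))
      rw [hf1, one_mul]
      exact hui
    haveI : (A.subgroupOf S).Normal := normal_subgroupOf_of_le_normalizer (by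
      refine le_normalizer_iff.2 fun g hg b hb => ?_
      obtain ⟨f, i, hf, hi, hui, rfl⟩ := hdec g hg
      have hiA : i ∈ A := subset_closure ⟨hi, hui⟩
      have hib : i * b * i⁻¹ ∈ A := mul_mem (mul_mem hiA hb) (inv_mem hiA)
      rw [show f * i * b * (f * i)⁻¹ = f * (i * b * i⁻¹) * f⁻¹ by group]
      refine subset_closure ⟨mul_mem (mul_mem (hxS' hf) (hAS hib)) (inv_mem (hxS' hf)), ?_⟩
      have hff : u * f * u⁻¹ = f := by rw [← (hxc f hf).eq, mul_inv_cancel_right]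
      calc u * (f * (i * b * i⁻¹) * f⁻¹) * u⁻¹
          = (u * f * u⁻¹) * (u * (i * b * i⁻¹) * u⁻¹) * (u * f * u⁻¹)⁻¹ := by group
        _ = f * (i * b * i⁻¹)⁻¹ * f⁻¹ := by rw [hff, hAinv _ hib]
        _ = _ := by group)
    have hAne : A.subgroupOf S ≠ ⊥ := fun h => by
      have h' : (⟨a, ha⟩ : S) ∈ A.subgroupOf S := subset_closure ⟨ha, hua⟩
      rw [h, mem_bot] at h'
      exact ha1 (congrArg Subtype.val h')
    haveI : Nontrivial ↥(A.subgroupOf S ⊓ center S) :=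
      (Subgroup.nontrivial_iff_ne_bot _).2 (PGroups.inf_center_ne_bot hS _ hAne)
    obtain ⟨⟨b, hb⟩, hbne⟩ := exists_ne (1 : ↥(A.subgroupOf S ⊓ center S))
    exact hno b b.2 (hAinv b hb.1) (fun e => hbne (Subtype.ext (Subtype.ext e)))
      fun g hg => congrArg Subtype.val (mem_center_iff.1 hb.2 ⟨g, hg⟩)
  -- the plane of `z`
  have hρinv : ∀ a, u * a * u⁻¹ = a⁻¹ → ∀ v, ρ u (ρ a v) = (ρ a)⁻¹ (ρ u v) := fun a ha v => by
    rw [← LinearEquiv.mul_apply, ← map_mul, ← map_inv, ← LinearEquiv.mul_apply, ← map_mul, ← ha,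
      inv_mul_cancel_right]
  have hε : ∀ v, ρ u (ρ u v) = v := fun v => by
    rw [← LinearEquiv.mul_apply, ← map_mul, hu2, map_one]
    rfl
  have hcast : ∀ a ∈ S, (orderOf (ρ a) : F) ≠ 0 := fun a ha => by
    obtain ⟨k, hk⟩ := hS ⟨a, ha⟩
    obtain ⟨j, -, hj⟩ := (Nat.dvd_prime_pow Nat.prime_three).1
      (orderOf_dvd_of_pow_eq_one (show ρ a ^ 3 ^ k = 1 by
        rw [← map_pow, show a ^ 3 ^ k = 1 from congrArg Subtype.val hk, map_one]))
    rw [hj, Nat.cast_pow]
    exact pow_ne_zero _ h3F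
  have hoddρ : ∀ a ∈ S, Odd (orderOf (ρ a)) := fun a ha =>
    (hoddel a ha).of_dvd_nat (orderOf_map_dvd ρ a)
  obtain ⟨W, hWmem, hWex, hyW, -, hdinj, hdy, hspan⟩ := plane_of_inverted h2F (hoddρ z hzS)
    (hcast z hzS) (fun h => hz1 (hinj z hzS huz h)) hε (hρinv z huz) hy0 hfixV
  have hmove : ∀ a ∈ S, u * a * u⁻¹ = a⁻¹ → a ≠ 1 → ρ a y0 ≠ y0 := fun a ha hua ha1 =>
    (plane_of_inverted h2F (hoddρ a ha) (hcast a ha) (fun h => ha1 (hinj a ha hua h)) hε
      (hρinv a hua) hy0 hfixV).choose_spec.2.2.2.1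
  set d : V → V := fun v => ρ z v - (ρ z)⁻¹ v with hd
  have hcomm : ∀ g ∈ S, ∀ v, ρ g (d v) = d (ρ g v) := fun g hg v => by
    simp only [hd, map_sub, ← map_inv, ← LinearEquiv.mul_apply, ← map_mul]
    rw [hzc g hg, (Commute.inv_right (show Commute g z from hzc g hg)).eq]
  have hgW : ∀ g ∈ S, ∀ w ∈ W, ρ g w ∈ W := by
    intro g hg w hw
    obtain ⟨v, rfl⟩ := hWex w hw
    rw [map_sub, ← LinearEquiv.mul_apply, ← map_mul, hzc g hg, map_mul, LinearEquiv.mul_apply]
    exact hWmem _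
  have hdlin : ∀ (c : F) (v : V), d (c • v) = c • d v := fun c v => by
    simp only [hd, map_smul, smul_sub]
  have hdadd : ∀ v v' : V, d (v + v') = d v + d v' := fun v v' => by
    simp only [hd, map_add]
    abel
  have hfixW : ∀ k ∈ S, ρ k y0 = y0 → ∀ w ∈ W, ρ k w = w := by
    intro k hk hky w hw
    obtain ⟨α, β, rfl⟩ := hspan w hw
    show ρ k (α • y0 + β • d y0) = α • y0 + β • d y0
    rw [map_add, map_smul, map_smul, hcomm k hk, hky]
  have hcy : ∀ g ∈ S, ∀ h ∈ S, ρ (g * h) y0 = ρ (h * g) y0 := by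
    intro g hg h hh
    obtain ⟨α, β, hα⟩ := hspan _ (hgW g hg y0 hyW)
    obtain ⟨γ, δ, hγ⟩ := hspan _ (hgW h hh y0 hyW)
    change ρ g y0 = α • y0 + β • d y0 at hα
    change ρ h y0 = γ • y0 + δ • d y0 at hγ
    have e1 : ρ g (ρ h y0) = γ • ρ g y0 + δ • d (ρ g y0) := by
      rw [hγ, map_add, map_smul, map_smul, hcomm g hg]
    have e2 : ρ h (ρ g y0) = α • ρ h y0 + β • d (ρ h y0) := by
      rw [hα, map_add, map_smul, map_smul, hcomm h hh]
    rw [map_mul, map_mul, LinearEquiv.mul_apply, LinearEquiv.mul_apply, e1, e2, hα, hγ]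
    simp only [hdadd, hdlin, smul_add, smul_smul]
    rw [mul_comm γ α, mul_comm γ β, mul_comm δ α, mul_comm δ β]
    abel
  have hcy' : ∀ g ∈ S, ∀ h ∈ S, ρ (g * h * g⁻¹ * h⁻¹) y0 = y0 := by
    intro g hg h hh
    have hw := hgW _ (mul_mem (inv_mem hg) (inv_mem hh)) y0 hyW
    rw [show g * h * g⁻¹ * h⁻¹ = g * h * (g⁻¹ * h⁻¹) by group, map_mul, LinearEquiv.mul_apply]
    obtain ⟨α, β, hα⟩ := hspan _ hw
    change ρ (g⁻¹ * h⁻¹) y0 = α • y0 + β • d y0 at hα
    have hb : ρ (h * g) (ρ (g⁻¹ * h⁻¹) y0) = y0 := by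
      rw [← LinearEquiv.mul_apply, ← map_mul, show h * g * (g⁻¹ * h⁻¹) = 1 by group, map_one]
      rfl
    rw [hα] at hb ⊢
    rw [map_add, map_smul, map_smul, hcomm _ (mul_mem hg hh), hcy g hg h hh, ← hcomm _ (mul_mem hh hg),
      ← map_smul, ← map_smul, ← map_add, hb]
  -- the stabiliser of `y0` consists of fixed elements commuting with the inverted ones
  have hK : ∀ k ∈ S, ρ k y0 = y0 → k ∈ zpowers x := by
    intro k hk hky
    obtain ⟨f, i, hf, hi, hui, rfl⟩ := hdec k hk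
    have huk : ρ ((u * (f * i) * u⁻¹)⁻¹ * (f * i)) y0 = y0 := by
      have h1 : ρ (u * (f * i) * u⁻¹) y0 = y0 := by
        rw [huinv, map_mul, map_mul, LinearEquiv.mul_apply, LinearEquiv.mul_apply, hy0, hky, hy0]
      rw [map_mul, LinearEquiv.mul_apply, hky, map_inv]
      conv_lhs => rw [← h1]
      exact (ρ (u * (f * i) * u⁻¹)).symm_apply_apply y0
    have hff : u * f * u⁻¹ = f := by rw [← (hxc f hf).eq, mul_inv_cancel_right]
    rw [show u * (f * i) * u⁻¹ = (u * f * u⁻¹) * (u * i * u⁻¹) by group, hff, hui,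
      show (f * i⁻¹)⁻¹ * (f * i) = i * i by group] at huk
    have hii : i * i = 1 := by
      by_contra hne
      refine hmove (i * i) (mul_mem hi hi) ?_ hne huk
      rw [show u * (i * i) * u⁻¹ = (u * i * u⁻¹) * (u * i * u⁻¹) by group, hui, mul_inv_rev]
    rw [hone i hi (by rw [pow_two]; exact hii), mul_one]
    exact hf
  have hKc : ∀ a ∈ S, u * a * u⁻¹ = a⁻¹ → ∀ k ∈ S, ρ k y0 = y0 → Commute a k := by
    intro a ha hua k hk hky
    have hcm : ∀ b ∈ S, ρ (b * k * b⁻¹) y0 = y0 := by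
      intro b hb
      rw [map_mul, map_mul, LinearEquiv.mul_apply, LinearEquiv.mul_apply,
        hfixW k hk hky _ (hgW _ (inv_mem hb) y0 hyW), ← LinearEquiv.mul_apply, ← map_mul, mul_inv_cancel,
        map_one]
      rfl
    have hkx := hxc k (hK k hk hky)
    have h1 := hxc _ (hK _ (mul_mem (mul_mem ha hk) (inv_mem ha)) (hcm a ha))
    have hu1 : u * (a * k * a⁻¹) * u⁻¹ = a * k * a⁻¹ := by rw [← h1.eq, mul_inv_cancel_right]
    have hku : u * k * u⁻¹ = k := by rw [← hkx.eq, mul_inv_cancel_right]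
    rw [show u * (a * k * a⁻¹) * u⁻¹ = (u * a * u⁻¹) * (u * k * u⁻¹) * (u * a * u⁻¹)⁻¹ by group, hua,
      hku, inv_inv] at hu1
    have h2 : Commute (a * a) k := by
      rw [commute_iff_eq]
      calc a * a * k = a * (a * k * a⁻¹) * a := by group
        _ = a * (a⁻¹ * k * a) * a := by rw [hu1]
        _ = k * (a * a) := by group
    obtain ⟨l, hl⟩ := hoddel a ha
    have h3 : a = (a * a) ^ (l + 1) := by
      rw [← pow_two, ← pow_mul, show 2 * (l + 1) = orderOf a + 1 by omega, pow_succ, pow_orderOf_eq_one,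
        one_mul]
    rw [h3]
    exact h2.pow_left _
  have hK1 : ∀ k ∈ S, ρ k y0 = y0 → k = 1 ∨ ∀ g ∈ S, g * k = k * g := by
    intro k hk hky
    refine or_iff_not_imp_left.2 fun hk1 g hg => ?_
    obtain ⟨f, i, hf, hi, hui, rfl⟩ := hdec g hg
    exact ((hxx f hf k (hK k hk hky)).mul_left (hKc i hi hui k hk hky)).eq
  have hab : ∀ g ∈ S, ∀ h ∈ S, g * h = h * g := by
    have hinvcomm : ∀ a ∈ S, u * a * u⁻¹ = a⁻¹ → ∀ b ∈ S, u * b * u⁻¹ = b⁻¹ → Commute a b := by
      intro a ha hua b hb hub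
      by_contra hne
      have hcS : a * b * a⁻¹ * b⁻¹ ∈ S := mul_mem (mul_mem (mul_mem ha hb) (inv_mem ha)) (inv_mem hb)
      rcases hK1 _ hcS (hcy' a ha b hb) with h | h
      · exact hne (mul_inv_eq_iff_eq_mul.1 (mul_inv_eq_one.1 h))
      set k := a * b * a⁻¹ * b⁻¹ with hk
      have hkx := hK k hcS (hcy' a ha b hb)
      have hk1 : k ≠ 1 := fun h => hne (mul_inv_eq_iff_eq_mul.1 (mul_inv_eq_one.1 h))
      have hkC : k ∈ ⁅centralizer ({k} : Set L), centralizer ({k} : Set L)⁆ := by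
        have := commutator_mem_commutator (mem_centralizer_singleton_iff.2 (h a ha))
          (mem_centralizer_singleton_iff.2 (h b hb))
        rwa [commutatorElement_def] at this
      exact hk1 (mem_bot.1 (hker k hkx hk1 ▸
        (⟨hkx, hkC⟩ : k ∈ zpowers x ⊓ ⁅centralizer ({k} : Set L), centralizer ({k} : Set L)⁆)))
    have hxcomm : ∀ f ∈ zpowers x, ∀ a ∈ S, u * a * u⁻¹ = a⁻¹ → Commute f a := by
      intro f hf a ha hua
      have hfS := hxS' hf
      have hff : u * f * u⁻¹ = f := by rw [← (hxc f hf).eq, mul_inv_cancel_right]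
      have hfa : u * (f * a * f⁻¹) * u⁻¹ = (f * a * f⁻¹)⁻¹ := by
        calc u * (f * a * f⁻¹) * u⁻¹ = (u * f * u⁻¹) * (u * a * u⁻¹) * (u * f * u⁻¹)⁻¹ := by group
          _ = f * a⁻¹ * f⁻¹ := by rw [hff, hua]
          _ = _ := by group
      have hc : Commute (f * a * f⁻¹) a⁻¹ :=
        (hinvcomm _ (mul_mem (mul_mem hfS ha) (inv_mem hfS)) hfa a ha hua).inv_right
      have hinv : u * (f * a * f⁻¹ * a⁻¹) * u⁻¹ = (f * a * f⁻¹ * a⁻¹)⁻¹ := by
        calc u * (f * a * f⁻¹ * a⁻¹) * u⁻¹ = (u * (f * a * f⁻¹) * u⁻¹) * (u * a * u⁻¹)⁻¹ := by group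
          _ = (f * a * f⁻¹)⁻¹ * a := by rw [hfa, hua, inv_inv]
          _ = _ := by rw [hc.eq]; group
      have hcS : f * a * f⁻¹ * a⁻¹ ∈ S := mul_mem (mul_mem (mul_mem hfS ha) (inv_mem hfS)) (inv_mem ha)
      by_contra hne
      exact hmove _ hcS hinv (fun h => hne (mul_inv_eq_iff_eq_mul.1 (mul_inv_eq_one.1 h)))
        (hcy' f hfS a ha)
    intro g hg h hh
    obtain ⟨f, i, hf, hi, hui, rfl⟩ := hdec g hg
    obtain ⟨f', i', hf', hi', hui', rfl⟩ := hdec h hh
    exact (((hxx f hf f' hf').mul_right (hxcomm f hf i' hi' hui')).mul_left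
      (((hxcomm f' hf' i hi hui).symm).mul_right (hinvcomm i hi hui i' hi' hui'))).eq
  -- inverted elements of order three
  obtain ⟨c, hcS, huc, hc3, hc1⟩ : ∃ c ∈ S, u * c * u⁻¹ = c⁻¹ ∧ c ^ 3 = 1 ∧ c ≠ 1 := by
    obtain ⟨k, hk⟩ := hS ⟨z, hzS⟩
    have hk' : z ^ 3 ^ k = 1 := congrArg Subtype.val hk
    obtain ⟨j, -, hj⟩ := (Nat.dvd_prime_pow Nat.prime_three).1 (orderOf_dvd_of_pow_eq_one hk')
    rcases j with _ | j
    · exact absurd (orderOf_eq_one_iff.1 (by rw [hj, pow_zero])) hz1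
    refine ⟨z ^ 3 ^ j, pow_mem hzS _, by rw [← conj_pow, huz, inv_pow],
      by rw [← pow_mul, ← pow_succ, ← hj, pow_orderOf_eq_one], fun h => ?_⟩
    have h3 := Nat.le_of_dvd (pow_pos (by norm_num) j) (hj ▸ orderOf_dvd_of_pow_eq_one h)
    have h4 : 3 ^ j < 3 ^ (j + 1) := Nat.pow_lt_pow_right (by norm_num) (Nat.lt_succ_self j)
    omega
  refine ⟨c, hab, fun a ha hua ha3 => ?_⟩
  by_contra hne
  simp only [not_exists] at hne
  have hfree : ∀ g ∈ S, u * g * u⁻¹ = g⁻¹ → g ≠ 1 → ∀ w ∈ W, ρ g w = w → w = 0 := by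
    intro g hg hug hg1 w hw hgw
    obtain ⟨α, β, rfl⟩ := hspan w hw
    change ρ g (α • y0 + β • d y0) = α • y0 + β • d y0 at hgw
    show α • y0 + β • d y0 = 0
    have hεd : ρ u (d y0) = -d y0 := by
      simp only [hd]
      rw [map_sub, hρinv z huz, hy0, neg_sub]
      congr 1
      rw [← map_inv, ← LinearEquiv.mul_apply, ← map_mul,
        show u * z⁻¹ = z * u from by
          calc u * z⁻¹ = u * (u * z * u⁻¹) := by rw [huz]
            _ = (u * u) * z * u⁻¹ := by group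
            _ = z * u := by rw [hu2, one_mul, huinv], map_mul, LinearEquiv.mul_apply, hy0]
    have h2 : ρ g (α • y0 - β • d y0) = α • y0 - β • d y0 := by
      have h := congrArg (ρ u) hgw
      rw [hρinv g hug, map_add, map_smul, map_smul, hy0, hεd, smul_neg, ← sub_eq_add_neg] at h
      conv_lhs => rw [← h]
      exact (ρ g).apply_symm_apply _
    have hgy : ρ g y0 - y0 ≠ 0 := sub_ne_zero.2 (hmove g hg hug hg1)
    have hα : α • (ρ g y0 - y0) = 0 := by
      have h3 := congrArg₂ (· + ·) hgw h2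
      rw [map_add, map_sub, map_smul, map_smul] at h3
      have h4 : (2 : F) • (α • ρ g y0) = (2 : F) • (α • y0) := by
        rw [two_smul, two_smul]
        calc α • ρ g y0 + α • ρ g y0
            = α • ρ g y0 + β • ρ g (d y0) + (α • ρ g y0 - β • ρ g (d y0)) := by abel
          _ = α • y0 + β • d y0 + (α • y0 - β • d y0) := h3
          _ = _ := by abel
      rw [smul_sub, sub_eq_zero]
      exact (smul_right_injective V h2F) h4
    have hα0 := (smul_eq_zero.1 hα).resolve_right hgy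
    rw [hα0, zero_smul, zero_add, map_smul, hcomm g hg] at hgw
    have hβ : d (β • (ρ g y0 - y0)) = 0 := by
      rw [hdlin, show ρ g y0 - y0 = ρ g y0 + (-1 : F) • y0 by rw [neg_one_smul, sub_eq_add_neg], hdadd,
        hdlin, smul_add, neg_one_smul, smul_neg, hgw, add_neg_cancel]
    have hβ0 := (smul_eq_zero.1 (hdinj _ (W.smul_mem β (W.sub_mem (hgW g hg y0 hyW) hyW)) hβ)).resolve_right hgy
    rw [hα0, hβ0, zero_smul, zero_smul, add_zero]
  have hsum : ∀ g ∈ S, u * g * u⁻¹ = g⁻¹ → g ^ 3 = 1 → g ≠ 1 →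
      ∀ w ∈ W, w + ρ g w + ρ g (ρ g w) = 0 := by
    intro g hg hug hg3 hg1 w hw
    refine hfree g hg hug hg1 _ (W.add_mem (W.add_mem hw (hgW g hg w hw)) (hgW g hg _ (hgW g hg w hw))) ?_
    have h3 : ρ g (ρ g (ρ g w)) = w := by
      rw [← LinearEquiv.mul_apply, ← LinearEquiv.mul_apply, ← map_mul, ← map_mul, ← pow_two, ← pow_succ,
        hg3, map_one]
      rfl
    rw [map_add, map_add, h3]
    abel
  have hac : Commute a c := hab a ha c hcS
  have hac1 : a * c ≠ 1 := fun h => by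
    refine hne 2 ?_
    rw [eq_inv_of_mul_eq_one_left h]
    exact inv_eq_of_mul_eq_one_right (by rw [← pow_succ']; exact hc3)
  have hac2 : a * (c * c) ≠ 1 := fun h => by
    refine hne 1 ?_
    have h' : a = (c * c)⁻¹ := eq_inv_of_mul_eq_one_left h
    rw [h', inv_eq_of_mul_eq_one_right (show c * c * c = 1 by rw [← pow_two, ← pow_succ, hc3])]
    simp
  have ha1 : a ≠ 1 := fun h => hne 0 (by rw [h]; simp)
  have hu_mul : ∀ p q, u * p * u⁻¹ = p⁻¹ → u * q * u⁻¹ = q⁻¹ → Commute p q →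
      u * (p * q) * u⁻¹ = (p * q)⁻¹ := fun p q hp hq hpq => by
    rw [show u * (p * q) * u⁻¹ = (u * p * u⁻¹) * (u * q * u⁻¹) by group, hp, hq, ← mul_inv_rev, hpq.eq]
  have hcc : u * (c * c) * u⁻¹ = (c * c)⁻¹ := hu_mul c c huc huc (Commute.refl c)
  have s1 := hsum a ha hua ha3 ha1 y0 hyW
  have s2 := hsum c hcS huc hc3 hc1 y0 hyW
  have s3 := hsum (a * c) (mul_mem ha hcS) (hu_mul a c hua huc hac)
    (by rw [hac.mul_pow, ha3, hc3, one_mul]) hac1 y0 hyW
  have s4 := hsum (a * (c * c)) (mul_mem ha (mul_mem hcS hcS))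
    (hu_mul a _ hua hcc (hac.mul_right hac))
    (by rw [(hac.mul_right hac).mul_pow, ha3, (Commute.refl c).mul_pow, hc3, one_mul, one_mul]) hac2 y0 hyW
  -- the nine elements of `⟨a, c⟩` sum to zero as well
  have hw1 : y0 + ρ c y0 + ρ c (ρ c y0) = 0 := s2
  have hcwa : ρ a (y0 + ρ c y0 + ρ c (ρ c y0)) = 0 := by rw [hw1, map_zero]
  have hcwaa : ρ a (ρ a (y0 + ρ c y0 + ρ c (ρ c y0))) = 0 := by rw [hcwa, map_zero]
  have hca : ∀ v, ρ c (ρ a v) = ρ a (ρ c v) := fun v => by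
    rw [← LinearEquiv.mul_apply, ← map_mul, ← hac.eq, map_mul, LinearEquiv.mul_apply]
  have hc4 : ∀ v, ρ c (ρ c (ρ c (ρ c v))) = ρ c v := fun v => by
    simp only [← LinearEquiv.mul_apply, ← map_mul]
    rw [← mul_assoc, ← mul_assoc, ← pow_two, ← pow_succ, hc3, one_mul]
  simp only [map_mul, LinearEquiv.mul_apply, hca, hc4] at s3 s4
  simp only [map_add] at hcwa hcwaa
  have h3y : (3 : F) • y0 = 0 := by
    calc (3 : F) • y0 = (y0 + ρ a y0 + ρ a (ρ a y0)) + (y0 + ρ c y0 + ρ c (ρ c y0))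
          + (y0 + ρ a (ρ c y0) + ρ a (ρ a (ρ c (ρ c y0))))
          + (y0 + ρ a (ρ c (ρ c y0)) + ρ a (ρ a (ρ c y0)))
          - (y0 + ρ c y0 + ρ c (ρ c y0))
          - (ρ a y0 + ρ a (ρ c y0) + ρ a (ρ c (ρ c y0)))
          - (ρ a (ρ a y0) + ρ a (ρ a (ρ c y0)) + ρ a (ρ a (ρ c (ρ c y0)))) := by
            rw [show (3 : F) = 1 + 1 + 1 by norm_num, add_smul, add_smul, one_smul]
            abel
      _ = 0 := by rw [s1, s2, s3, s4, hcwa, hcwaa]; simp
  exact hmove a ha hua ha1 (by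
    rw [(smul_eq_zero.1 h3y).resolve_left h3F, map_zero])

end Cfsg.Agent.H27.E0
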